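import Cfsg.Agent.H71.CycReg.Helpers
import Cfsg.Agent.S3972
import Cfsg.Agent.S3559

/-!
Groups with a cyclic regular subgroup whose point stabilisers are Z-groups: basic lemmas.
-/

set_option autoImplicit false
set_option linter.unusedSectionVars false

namespace H71.CycReg

open Equiv

variable {Ω : Type*} [Fintype Ω] [DecidableEq Ω]

/-- The point stabiliser inside `G`. -/
def St (G : Subgroup (Perm Ω)) (a : Ω) : Subgroup (Perm Ω) :=
  G ⊓ MulAction.stabilizer (Perm Ω) a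

omit [Fintype Ω] [DecidableEq Ω] in
theorem mem_St {G : Subgroup (Perm Ω)} {a : Ω} {g : Perm Ω} : g ∈ St G a ↔ g ∈ G ∧ g a = a :=
  Iff.rfl

omit [Fintype Ω] [DecidableEq Ω] in
theorem St_le (G : Subgroup (Perm Ω)) (a : Ω) : St G a ≤ G := inf_le_left

/-- The two-point stabiliser inside `G`. -/
def Dd (G : Subgroup (Perm Ω)) (a b : Ω) : Subgroup (Perm Ω) := St G a ⊓ St G b

omit [Fintype Ω] [DecidableEq Ω] in
theorem mem_Dd {G : Subgroup (Perm Ω)} {a b : Ω} {g : Perm Ω} :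
    g ∈ Dd G a b ↔ g ∈ G ∧ g a = a ∧ g b = b :=
  ⟨fun h => ⟨h.1.1, h.1.2, h.2.2⟩, fun h => ⟨⟨h.1, h.2.1⟩, h.1, h.2.2⟩⟩

/-- Setting: a 2-transitive group of even degree with a regular cyclic subgroup and Z-group
point stabilisers. -/
structure Hyp (G A : Subgroup (Perm Ω)) : Prop where
  le : A ≤ G
  cyc : IsCyclic A
  reg : ∀ x y : Ω, ∃! α : A, (α : Perm Ω) x = y
  hZ : ∀ a, IsZGroup (St G a)
  two : ∀ a b c d : Ω, a ≠ b → c ≠ d → ∃ g ∈ G, g a = c ∧ g b = d
  four : 4 ≤ Fintype.card Ω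
  even : Even (Fintype.card Ω)

namespace Hyp

variable {G A : Subgroup (Perm Ω)} (h : Hyp G A)
include h

theorem comm_A {α β : Perm Ω} (hα : α ∈ A) (hβ : β ∈ A) : α * β = β * α := by
  haveI := h.cyc
  letI := (IsCyclic.commGroup : CommGroup A)
  exact congrArg Subtype.val (mul_comm (⟨α, hα⟩ : A) ⟨β, hβ⟩)

theorem card_A : Nat.card A = Fintype.card Ω := by
  obtain ⟨a⟩ : Nonempty Ω := Fintype.card_pos_iff.1 (by have := h.four; omega)
  rw [← Nat.card_eq_fintype_card]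
  refine Nat.card_eq_of_bijective (fun α : A => (α : Perm Ω) a) ⟨fun α β e => ?_, fun y => ?_⟩
  · exact (h.reg a ((β : Perm Ω) a)).unique e rfl
  · exact (h.reg a y).exists

theorem exists_A (x y : Ω) : ∃ α ∈ A, α x = y := by
  obtain ⟨α, hα⟩ := (h.reg x y).exists
  exact ⟨α, α.2, hα⟩

theorem A_semireg {α : Perm Ω} (hα : α ∈ A) {x : Ω} (hx : α x = x) : α = 1 :=
  congrArg Subtype.val ((h.reg x x).unique (y₁ := ⟨α, hα⟩) (y₂ := 1) hx rfl)

theorem exists_mem_map (a c : Ω) : ∃ g ∈ G, g a = c := by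
  obtain ⟨α, hα, hαc⟩ := h.exists_A a c
  exact ⟨α, h.le hα, hαc⟩

theorem exists_third (a b : Ω) : ∃ c, c ≠ a ∧ c ≠ b := by
  have : ({a, b} : Finset Ω).card < Fintype.card Ω := by
    have := h.four
    have := Finset.card_le_two (a := a) (b := b)
    omega
  have hpos : 0 < ({a, b} : Finset Ω)ᶜ.card := by rw [Finset.card_compl]; omega
  obtain ⟨c, hc⟩ := Finset.card_pos.1 hpos
  simp only [Finset.mem_compl, Finset.mem_insert, Finset.mem_singleton, not_or] at hc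
  exact ⟨c, hc.1, hc.2⟩

theorem stab_trans {a x y : Ω} (hx : x ≠ a) (hy : y ≠ a) : ∃ g ∈ St G a, g x = y := by
  obtain ⟨g, hg, ha, hb⟩ := h.two a x a y (Ne.symm hx) (Ne.symm hy)
  exact ⟨g, mem_St.2 ⟨hg, ha⟩, hb⟩

/-- A subgroup normalised by `G` and fixing a point is trivial. -/
theorem eq_bot_of_fix {X : Subgroup (Perm Ω)} (hn : ∀ g ∈ G, ∀ x ∈ X, g * x * g⁻¹ ∈ X) {a : Ω}
    (ha : ∀ x ∈ X, x a = a) : X = ⊥ := by
  rw [Subgroup.eq_bot_iff_forall]
  intro x hx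
  ext c
  obtain ⟨g, hg, rfl⟩ := h.exists_mem_map a c
  have := ha _ (hn g⁻¹ (inv_mem hg) x hx)
  rw [Perm.mul_apply, Perm.mul_apply, inv_inv, Perm.inv_eq_iff_eq] at this
  simpa using this

/-- `G` is generated by two point stabilisers. -/
theorem le_of_two_stab {Y : Subgroup (Perm Ω)} {a b : Ω} (hab : a ≠ b) (ha : St G a ≤ Y)
    (hb : St G b ≤ Y) : G ≤ Y := by
  have key : ∀ g ∈ G, g a ≠ b → g ∈ Y := by
    intro g hg hgb
    obtain ⟨k, hk, hk1⟩ := h.stab_trans hab hgb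
    have hkG := St_le G b hk
    have h1 : k⁻¹ * g ∈ Y := ha (mem_St.2 ⟨mul_mem (inv_mem hkG) hg, by
      rw [Perm.mul_apply, Perm.inv_eq_iff_eq, hk1]⟩)
    simpa using mul_mem (hb hk) h1
  intro g hg
  by_cases hgb : g a = b
  · obtain ⟨c, hca, hcb⟩ := h.exists_third a b
    obtain ⟨k, hk, hk1⟩ := h.stab_trans (Ne.symm hab) hca
    have h1 := key (k * g) (mul_mem (St_le G a hk) hg) (by rw [Perm.mul_apply, hgb, hk1]; exact hcb)
    simpa using mul_mem (inv_mem (ha hk)) h1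
  · exact key g hg hgb

omit h in
theorem conj_mem_St {g m : Perm Ω} (hg : g ∈ G) {a : Ω} (hm : m ∈ St G a) :
    g * m * g⁻¹ ∈ St G (g a) := by
  rw [mem_St] at hm ⊢
  exact ⟨mul_mem (mul_mem hg hm.1) (inv_mem hg), by simp [hm.2]⟩

/-- A prime order element generating a normal subgroup of a point stabiliser fixes only that
point. -/
theorem prime_normal_semireg {a b : Ω} (hab : a ≠ b) {x : Perm Ω} (hx : x ∈ St G a)
    {r : ℕ} (hr : r.Prime) (hox : orderOf x = r)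
    (hn : ∀ m ∈ St G a, m * x * m⁻¹ ∈ Subgroup.zpowers x) : x b ≠ b := by
  intro hxb
  have honly : ∀ y ∈ St G a, orderOf y = r → Subgroup.zpowers y = Subgroup.zpowers x := by
    intro y hy hoy
    obtain ⟨m, hm, hm1⟩ := zgroup_conj (h.hZ a) hx hy hr hox hoy
    rw [← hm1]
    refine eq_of_le_cyclic (S := Subgroup.zpowers x) (Subgroup.isCyclic_zpowers x)
      (Subgroup.zpowers_le.2 (hn m hm)) le_rfl ?_
    rw [Nat.card_zpowers, Nat.card_zpowers,
      show m * x * m⁻¹ = MulAut.conj m x from rfl, (MulAut.conj m).orderOf_eq]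
  obtain ⟨g, hg, hga⟩ := h.exists_mem_map a b
  have hxb' : x ∈ St G b := mem_St.2 ⟨St_le G a hx, hxb⟩
  have hn' : ∀ m ∈ St G b, m * x * m⁻¹ ∈ Subgroup.zpowers x := by
    intro m hm
    have hgi : g⁻¹ b = a := by rw [Perm.inv_eq_iff_eq]; exact hga.symm
    have h1 := conj_mem_St (inv_mem hg) hxb'
    have h2 := conj_mem_St (inv_mem hg) (mul_mem (mul_mem hm hxb') (inv_mem hm))
    rw [hgi, inv_inv] at h1 h2
    have e1 := honly _ h1 (by
      rw [show g⁻¹ * x * g = MulAut.conj g⁻¹ x by simp, (MulAut.conj g⁻¹).orderOf_eq, hox])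
    have e2 := honly _ h2 (by
      rw [show g⁻¹ * (m * x * m⁻¹) * g = MulAut.conj (g⁻¹ * m) x by simp [mul_assoc],
        (MulAut.conj (g⁻¹ * m)).orderOf_eq, hox])
    have h3 : g⁻¹ * (m * x * m⁻¹) * g ∈ Subgroup.zpowers (g⁻¹ * x * g) := by
      rw [e1, ← e2]; exact Subgroup.mem_zpowers _
    obtain ⟨n, hn3⟩ := Subgroup.mem_zpowers_iff.1 h3
    refine Subgroup.mem_zpowers_iff.2 ⟨n, ?_⟩
    have h4 : g⁻¹ * x ^ n * g = g⁻¹ * (m * x * m⁻¹) * g := by
      rw [← hn3]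
      have := map_zpow (MulAut.conj g⁻¹) x n
      simpa using this
    exact mul_left_cancel (mul_right_cancel h4)
  have hle := h.le_of_two_stab
    (Y := Subgroup.normalizer ((Subgroup.zpowers x : Subgroup (Perm Ω)) : Set (Perm Ω)))
    hab (fun m hm => mem_normalizer_zpowers (hn m hm)) (fun m hm => mem_normalizer_zpowers (hn' m hm))
  have hbot := h.eq_bot_of_fix (X := Subgroup.zpowers x) (a := a) (fun g hg y hy =>
      ((Subgroup.mem_normalizer_iff.1 (hle hg)) y).1 hy) (by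
      intro y hy
      obtain ⟨n, rfl⟩ := Subgroup.mem_zpowers_iff.1 hy
      exact (Subgroup.zpow_mem _ hx n).2)
  rw [Subgroup.zpowers_eq_bot] at hbot
  rw [hbot, orderOf_one] at hox
  exact hr.one_lt.ne hox

end Hyp

end H71.CycReg
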