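import Cfsg.Agent.H71.CycReg.TwoPoint

/-!
The centraliser of an involution fixing two points, acting on its fixed points.
-/

set_option autoImplicit false
set_option linter.unusedSectionVars false

namespace H71.CycReg

open Equiv

variable {Ω : Type*} [Fintype Ω] [DecidableEq Ω]

/-- Fixed data: a point `a`, the involution `τ` of the regular subgroup, and the involution `z`
fixing `a` and `τ a`. -/
structure Ctx (G A : Subgroup (Perm Ω)) (a : Ω) (τ z : Perm Ω) : Prop where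
  hyp : Hyp G A
  tauA : τ ∈ A
  otau : orderOf τ = 2
  zD : z ∈ Dd G a (τ a)
  oz : orderOf z = 2

theorem Hyp.exists_ctx {G A : Subgroup (Perm Ω)} (h : Hyp G A) (a : Ω) :
    ∃ τ z, Ctx G A a τ z := by
  obtain ⟨τ, hτA, hτ, hfix⟩ := h.exists_tau
  obtain ⟨z, hz, hoz⟩ := h.exists_invol (a := a) (b := τ a) (Ne.symm (hfix a))
  exact ⟨τ, z, h, hτA, hτ, hz, hoz⟩

theorem sq_one_of_order_two {P : Type*} [Monoid P] {x : P} (h : orderOf x = 2) : x * x = 1 := by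
  rw [← pow_two, ← h, pow_orderOf_eq_one]

theorem order_two_of_sq {P : Type*} [Monoid P] {x : P} (h : x * x = 1) (h1 : x ≠ 1) :
    orderOf x = 2 :=
  orderOf_eq_prime (by rw [pow_two, h]) h1

/-- The centraliser of `z` in `G`. -/
def Nn (G : Subgroup (Perm Ω)) (z : Perm Ω) : Subgroup (Perm Ω) :=
  G ⊓ Subgroup.centralizer {z}

theorem mem_Nn {G : Subgroup (Perm Ω)} {z g : Perm Ω} : g ∈ Nn G z ↔ g ∈ G ∧ g * z = z * g := by
  simp [Nn, Subgroup.mem_centralizer_singleton_iff, eq_comm]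

theorem Nn_fix {G : Subgroup (Perm Ω)} {z g : Perm Ω} (hg : g ∈ Nn G z) (c : Ω) :
    z (g c) = g c ↔ z c = c := by
  rw [← Perm.mul_apply, ← (mem_Nn.1 hg).2, Perm.mul_apply]
  exact g.injective.eq_iff

/-- Restriction of the centraliser to the fixed points. -/
def res (G : Subgroup (Perm Ω)) (z : Perm Ω) : Nn G z →* Perm {c : Ω // z c = c} where
  toFun g := (g : Perm Ω).subtypePerm fun c => Nn_fix g.2 c
  map_one' := by ext; rfl
  map_mul' g h := by ext; rfl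

theorem res_apply {G : Subgroup (Perm Ω)} {z : Perm Ω} (g : Nn G z) (c : {c : Ω // z c = c}) :
    ((res G z g) c : Ω) = (g : Perm Ω) c := rfl

namespace Ctx

variable {G A : Subgroup (Perm Ω)} {a : Ω} {τ z : Perm Ω} (hc : Ctx G A a τ z)
include hc

theorem hab : a ≠ τ a := fun e => by
  have h1 := hc.otau
  rw [hc.hyp.A_semireg hc.tauA e.symm, orderOf_one] at h1
  omega

theorem tau_ne (c : Ω) : τ c ≠ c := fun e => by
  have h1 := hc.otau
  rw [hc.hyp.A_semireg hc.tauA e, orderOf_one] at h1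
  omega

theorem tau_inv : τ⁻¹ = τ := inv_eq_of_mul_eq_one_right (sq_one_of_order_two hc.otau)

theorem tau_tau (c : Ω) : τ (τ c) = c := by
  rw [← Perm.mul_apply, sq_one_of_order_two hc.otau, Perm.one_apply]

theorem za : z a = a := (mem_Dd.1 hc.zD).2.1

theorem zb : z (τ a) = τ a := (mem_Dd.1 hc.zD).2.2

theorem zG : z ∈ G := (mem_Dd.1 hc.zD).1

theorem tau_mem_Dd {d : Perm Ω} (hd : d ∈ Dd G a (τ a)) : τ * d * τ⁻¹ ∈ Dd G a (τ a) := by
  have := conj_mem_Dd (hc.hyp.le hc.tauA) hd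
  rw [hc.tau_tau] at this
  exact mem_Dd.2 ⟨(mem_Dd.1 this).1, (mem_Dd.1 this).2.2, (mem_Dd.1 this).2.1⟩

theorem z_tau : τ * z = z * τ := by
  have := hc.hyp.Dd_invol_unique hc.hab (hc.tau_mem_Dd hc.zD) hc.zD
    (by rw [show τ * z * τ⁻¹ = MulAut.conj τ z from rfl, (MulAut.conj τ).orderOf_eq, hc.oz]) hc.oz
  exact mul_inv_eq_iff_eq_mul.1 this

theorem tau_Nn : τ ∈ Nn G z := mem_Nn.2 ⟨hc.hyp.le hc.tauA, hc.z_tau⟩

theorem Dd_Nn {d : Perm Ω} (hd : d ∈ Dd G a (τ a)) : d ∈ Nn G z :=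
  mem_Nn.2 ⟨(mem_Dd.1 hd).1, hc.hyp.Dd_comm hc.hab hd hc.zD⟩

theorem fix_iff (c : Ω) : z c = c ↔ ∃ α ∈ A, α * z = z * α ∧ α a = c := by
  constructor
  · intro hzc
    obtain ⟨α, hα, hαc⟩ := hc.hyp.exists_A a c
    refine ⟨α, hα, ?_, hαc⟩
    have hv1 : (α⁻¹ * z * α) a = a := by
      rw [Perm.mul_apply, Perm.mul_apply, hαc, hzc, Perm.inv_eq_iff_eq, hαc]
    have hvτ : (α⁻¹ * z * α) * τ = τ * (α⁻¹ * z * α) := by
      have e1 := hc.hyp.comm_A hα hc.tauA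
      have e2 := hc.hyp.comm_A (inv_mem hα) hc.tauA
      have e3 := hc.z_tau
      rw [mul_assoc, e1, ← mul_assoc, mul_assoc α⁻¹ z, ← e3, ← mul_assoc, e2, mul_assoc, mul_assoc,
        mul_assoc]
    have hv2 : (α⁻¹ * z * α) (τ a) = τ a := by
      rw [← Perm.mul_apply, hvτ, Perm.mul_apply, hv1]
    have hvD : α⁻¹ * z * α ∈ Dd G a (τ a) :=
      mem_Dd.2 ⟨mul_mem (mul_mem (inv_mem (hc.hyp.le hα)) hc.zG) (hc.hyp.le hα), hv1, hv2⟩
    have := hc.hyp.Dd_invol_unique hc.hab hvD hc.zD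
      (by rw [show α⁻¹ * z * α = MulAut.conj α⁻¹ z by simp, (MulAut.conj α⁻¹).orderOf_eq, hc.oz]) hc.oz
    rw [mul_assoc, inv_mul_eq_iff_eq_mul] at this
    exact this.symm
  · rintro ⟨α, hα, hcomm, rfl⟩
    rw [← Perm.mul_apply, ← hcomm, Perm.mul_apply, hc.za]

/-- A conjugate of `z` is the unique involution of any two-point stabiliser containing it. -/
theorem invol_eq {c d : Ω} (hcd : c ≠ d) {w : Perm Ω} (hw : w ∈ G) (ho : orderOf w = 2)
    (hwc : w c = c) (hwd : w d = d) (hzc : z c = c) (hzd : z d = d) : w = z :=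
  hc.hyp.Dd_invol_unique hcd (mem_Dd.2 ⟨hw, hwc, hwd⟩) (mem_Dd.2 ⟨hc.zG, hzc, hzd⟩) ho hc.oz

theorem Nn_two {c d c' d' : Ω} (hcd : c ≠ d) (hcd' : c' ≠ d') (hzc : z c = c) (hzd : z d = d)
    (hzc' : z c' = c') (hzd' : z d' = d') : ∃ g ∈ Nn G z, g c = c' ∧ g d = d' := by
  obtain ⟨g, hg, h1, h2⟩ := hc.hyp.two c d c' d' hcd hcd'
  refine ⟨g, mem_Nn.2 ⟨hg, ?_⟩, h1, h2⟩
  have hg1 : g⁻¹ c' = c := by rw [Perm.inv_eq_iff_eq, h1]
  have hg2 : g⁻¹ d' = d := by rw [Perm.inv_eq_iff_eq, h2]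
  have := hc.invol_eq hcd' (mul_mem (mul_mem hg hc.zG) (inv_mem hg))
    (by rw [show g * z * g⁻¹ = MulAut.conj g z from rfl, (MulAut.conj g).orderOf_eq, hc.oz])
    (by rw [Perm.mul_apply, Perm.mul_apply, hg1, hzc, h1]) (by rw [Perm.mul_apply, Perm.mul_apply, hg2, hzd, h2]) hzc' hzd'
  exact mul_inv_eq_iff_eq_mul.1 this

theorem Cc_comm_of_fix {x : Perm Ω} (hx : x ∈ Cc G a) (hfix : z (x (τ a)) = x (τ a)) :
    x ∈ Nn G z :=
  mem_Nn.2 ⟨St_le G a (hc.hyp.Cc_le a hx), ((hc.hyp.fix_iff_comm hc.hab hc.zD hx).1 hfix).symm⟩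

/-- A normal subgroup of the centraliser containing its point stabiliser is everything, if `z` has
a third fixed point. -/
theorem Nn_le_of_normal {Y : Subgroup (Perm Ω)} (hn : ∀ g ∈ Nn G z, ∀ y ∈ Y, g * y * g⁻¹ ∈ Y)
    (hst : St G a ⊓ Nn G z ≤ Y) {e : Ω} (hea : e ≠ a) (heb : e ≠ τ a) (hze : z e = e) :
    Nn G z ≤ Y := by
  obtain ⟨x, hx, hxe⟩ := hc.hyp.Cc_regular (Ne.symm hc.hab) hea
  have hxN : x ∈ Nn G z := hc.Cc_comm_of_fix hx (by rw [hxe]; exact hze)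
  have hxY : x ∈ Y := hst ⟨hc.hyp.Cc_le a hx, hxN⟩
  obtain ⟨t, ht, hta, htb⟩ := hc.Nn_two hc.hab (Ne.symm hc.hab) hc.za hc.zb hc.zb hc.za
  have hy : t * x * t⁻¹ ∈ Y := hn t ht x hxY
  have hya : (t * x * t⁻¹) a = t e := by
    rw [Perm.mul_apply, Perm.mul_apply, Perm.inv_eq_iff_eq.2 htb.symm, hxe]
  have hne : t e ≠ a := fun h => heb (t.injective (h.trans htb.symm))
  intro g hg
  obtain ⟨y, hyY, hyN, hyga⟩ : ∃ y ∈ Y, y ∈ Nn G z ∧ y a = g a := by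
    by_cases hga : g a = a
    · exact ⟨1, one_mem _, one_mem _, hga.symm⟩
    have hyN : t * x * t⁻¹ ∈ Nn G z := mul_mem (mul_mem ht hxN) (inv_mem ht)
    obtain ⟨m, hm, hma, hmt⟩ := hc.Nn_two (Ne.symm hne) (Ne.symm hga) hc.za
      ((Nn_fix ht e).2 hze) hc.za ((Nn_fix hg a).2 hc.za)
    refine ⟨m * (t * x * t⁻¹) * m⁻¹, hn m hm _ hy, mul_mem (mul_mem hm hyN) (inv_mem hm), ?_⟩
    rw [Perm.mul_apply, Perm.mul_apply, Perm.inv_eq_iff_eq.2 hma.symm, hya, hmt]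
  have hmem : y⁻¹ * g ∈ St G a ⊓ Nn G z := Subgroup.mem_inf.2
    ⟨mem_St.2 ⟨mul_mem (inv_mem (mem_Nn.1 hyN).1) (mem_Nn.1 hg).1,
      by rw [Perm.mul_apply, Perm.inv_eq_iff_eq, hyga]⟩, mul_mem (inv_mem hyN) hg⟩
  simpa using mul_mem hyY (hst hmem)

theorem card_fix_even : Even (Fintype.card {c : Ω // z c = c}) := by
  haveI : Fact (Nat.Prime 2) := ⟨Nat.prime_two⟩
  have h := Perm.card_fixedPoints (σ := z)
  have hsq : z ^ 2 ^ 1 = 1 := by rw [pow_one, pow_two, sq_one_of_order_two hc.oz]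
  have hm := Perm.card_compl_support_modEq (p := 2) (n := 1) hsq
  have he : Fintype.card {c : Ω // z c = c} = (z.supportᶜ).card := by
    rw [Fintype.card_subtype]
    congr 1
    ext c
    simp
  rw [he, even_iff_two_dvd]
  exact (Nat.modEq_zero_iff_dvd.1 (hm.trans (Nat.modEq_zero_iff_dvd.2 (even_iff_two_dvd.1 hc.hyp.even))))

theorem card_fix_lt : Fintype.card {c : Ω // z c = c} < Fintype.card Ω := by
  obtain ⟨x, hx⟩ : ∃ x, z x ≠ x := by
    by_contra hcon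
    push Not at hcon
    have h1 := hc.oz
    rw [show z = 1 from Perm.ext hcon, orderOf_one] at h1
    omega
  exact Fintype.card_subtype_lt hx

/-- The image of the centraliser on the fixed points. -/
theorem hyp_res (h4 : 4 ≤ Fintype.card {c : Ω // z c = c}) :
    Hyp (res G z).range ((A.subgroupOf (Nn G z)).map (res G z)) where
  le := by
    rintro x ⟨g, -, rfl⟩
    exact ⟨g, rfl⟩
  cyc := by
    haveI : IsCyclic (A ⊓ Nn G z : Subgroup (Perm Ω)) := haveI := hc.hyp.cyc; Subgroup.isCyclic_of_le inf_le_left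
    haveI : IsCyclic (A.subgroupOf (Nn G z)) := by
      refine isCyclic_of_injective ((Nn G z).subtype.comp (A.subgroupOf (Nn G z)).subtype |>.codRestrict (A ⊓ Nn G z) fun g => ⟨g.2, g.1.2⟩) ?_
      intro g h e
      exact Subtype.ext (Subtype.ext (congrArg Subtype.val e : _))
    exact isCyclic_of_surjective _ ((res G z).subgroupMap_surjective _)
  reg := by
    rintro ⟨x, hx⟩ ⟨y, hy⟩
    obtain ⟨α, hα, hαz, rfl⟩ := (hc.fix_iff x).1 hx
    obtain ⟨β, hβ, hβz, rfl⟩ := (hc.fix_iff y).1 hy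
    have hαN : α ∈ Nn G z := mem_Nn.2 ⟨hc.hyp.le hα, hαz⟩
    have hβN : β ∈ Nn G z := mem_Nn.2 ⟨hc.hyp.le hβ, hβz⟩
    refine ⟨⟨res G z ⟨β * α⁻¹, mul_mem hβN (inv_mem hαN)⟩, ⟨β * α⁻¹, mul_mem hβN (inv_mem hαN)⟩, (mul_mem hβ (inv_mem hα) : β * α⁻¹ ∈ A), rfl⟩,
      Subtype.ext (by simp [res_apply]), ?_⟩
    rintro ⟨_, g, hg, rfl⟩ he
    have h1 : (g : Perm Ω) (α a) = β a := congrArg Subtype.val he
    have h2 : (g : Perm Ω) = β * α⁻¹ :=
      congrArg Subtype.val ((hc.hyp.reg (α a) (β a)).unique (y₁ := ⟨g, hg⟩)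
        (y₂ := ⟨β * α⁻¹, mul_mem hβ (inv_mem hα)⟩) h1 (by simp))
    exact Subtype.ext (congrArg (res G z) (Subtype.ext h2))
  hZ := by
    intro x
    haveI : IsZGroup (St G (x : Ω) ⊓ Nn G z : Subgroup (Perm Ω)) := by
      haveI := hc.hyp.hZ (x : Ω)
      exact IsZGroup.of_injective (f := Subgroup.inclusion inf_le_left) (Subgroup.inclusion_injective _)
    let φ : (St G (x : Ω) ⊓ Nn G z : Subgroup (Perm Ω)) →* St (res G z).range x :=
      ((res G z).comp (Subgroup.inclusion inf_le_right)).codRestrict _ fun g =>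
        mem_St.2 ⟨⟨_, rfl⟩, Subtype.ext (mem_St.1 g.2.1).2⟩
    refine IsZGroup.of_surjective (f := φ) ?_
    rintro ⟨_, ⟨g, rfl⟩, hg⟩
    exact ⟨⟨g, mem_St.2 ⟨(mem_Nn.1 g.2).1, congrArg Subtype.val hg⟩, g.2⟩, rfl⟩
  two := by
    rintro ⟨c, hc1⟩ ⟨d, hd⟩ ⟨c', hc'⟩ ⟨d', hd'⟩ hne hne'
    obtain ⟨g, hg, h1, h2⟩ := hc.Nn_two (fun e => hne (Subtype.ext e)) (fun e => hne' (Subtype.ext e))
      hc1 hd hc' hd'
    exact ⟨res G z ⟨g, hg⟩, ⟨_, rfl⟩, Subtype.ext h1, Subtype.ext h2⟩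
  four := h4
  even := hc.card_fix_even

end Ctx

end H71.CycReg
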