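import Cfsg.Agent.H71.CycReg.Product

/-!
In a product of a cyclic group and a Z-group with trivial solvable radical, maximal subgroups
containing the Z-group are core-free.
-/

set_option autoImplicit false
set_option linter.unusedSectionVars false

namespace H71.CycReg

open Equiv

universe u

/-- A Z-subgroup meeting a normal subgroup and its quotient in even order has an element of
order 4 squaring into the normal subgroup. -/
theorem exists_four {G : Type u} [Group G] [Finite G] {X K : Subgroup G} (hX : IsZGroup X) [hK : K.Normal]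
    (he1 : Even (Nat.card (X ⊓ K : Subgroup G)))
    (he2 : Even (Nat.card (X.map (QuotientGroup.mk' K)))) :
    ∃ v ∈ X, orderOf v = 4 ∧ v * v ∈ K := by
  classical
  haveI := hX
  haveI : Fact (Nat.Prime 2) := ⟨Nat.prime_two⟩
  have h4 : 2 ^ 2 ∣ Nat.card X := by
    let f : X →* X.map (QuotientGroup.mk' K) := (QuotientGroup.mk' K).subgroupMap X
    have hf : Function.Surjective f := (QuotientGroup.mk' K).subgroupMap_surjective X
    have hker : Nat.card f.ker = Nat.card (X ⊓ K : Subgroup G) := by
      refine Nat.card_congr ⟨fun x => ⟨(x : X), Subgroup.mem_inf.2 ⟨(x : X).2, ?_⟩⟩,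
        fun x => ⟨⟨x, x.2.1⟩, ?_⟩, fun _ => rfl, fun _ => rfl⟩
      · exact (QuotientGroup.eq_one_iff _).1 (congrArg Subtype.val (MonoidHom.mem_ker.1 x.2))
      · exact MonoidHom.mem_ker.2 (Subtype.ext ((QuotientGroup.eq_one_iff _).2 x.2.2))
    have h1 := Subgroup.card_mul_index f.ker
    rw [Subgroup.index_ker, hker, Nat.card_congr (MonoidHom.range_eq_top.2 hf ▸ Subgroup.topEquiv.toEquiv : f.range ≃ X.map (QuotientGroup.mk' K))] at h1
    rw [← h1, pow_two]
    exact Nat.mul_dvd_mul (even_iff_two_dvd.1 he1) (even_iff_two_dvd.1 he2)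
  obtain ⟨P0⟩ : Nonempty (Sylow 2 X) := inferInstance
  haveI : IsCyclic (P0 : Subgroup X) := inferInstance
  obtain ⟨r, hr⟩ := IsCyclic.exists_generator (α := (P0 : Subgroup X))
  have hor : orderOf r = Nat.card (P0 : Subgroup X) := orderOf_eq_card_of_forall_mem_zpowers hr
  have h4' : 4 ∣ orderOf r := by
    rw [hor]
    exact P0.pow_dvd_card_of_pow_dvd_card h4
  obtain ⟨j, hj⟩ := h4'
  have hj0 : j ≠ 0 := fun e => (orderOf_pos r).ne' (by rw [hj, e])
  set v : G := (((r ^ j : (P0 : Subgroup X)) : X) : G) with hv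
  have hov : orderOf v = 4 := by
    rw [hv, Subgroup.orderOf_coe, Subgroup.orderOf_coe, orderOf_pow' _ hj0, hj,
      Nat.gcd_eq_right ⟨4, mul_comm _ _⟩, Nat.mul_div_cancel _ (Nat.pos_of_ne_zero hj0)]
  have hvX : v ∈ X := ((r ^ j : (P0 : Subgroup X)) : X).2
  refine ⟨v, hvX, hov, ?_⟩
  obtain ⟨⟨w, hw⟩, hwo⟩ := exists_prime_orderOf_dvd_card' (G := (X ⊓ K : Subgroup G)) 2
    (even_iff_two_dvd.1 he1)
  rw [← Subgroup.orderOf_coe] at hwo
  have hvv : orderOf (v * v) = 2 := by
    rw [← pow_two, orderOf_pow' _ two_ne_zero, hov]; rfl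
  obtain ⟨m, hm, hme⟩ := zgroup_conj hX (mul_mem hvX hvX) (Subgroup.mem_inf.1 hw).1 Nat.prime_two hvv hwo
  have h1 : m * (v * v) * m⁻¹ ∈ K :=
    (Subgroup.zpowers_le.2 (Subgroup.mem_inf.1 hw).2) (hme ▸ Subgroup.mem_zpowers _)
  simpa [mul_assoc] using hK.conj_mem _ h1 m⁻¹

/-- The core of a maximal subgroup containing the Z-group factor is trivial. -/
theorem core_eq_bot : ∀ (n : ℕ) (G : Type u) [Group G] [Finite G], Nat.card G = n →
    ∀ (A B : Subgroup G), IsCyclic A → IsZGroup B → (∀ g : G, ∃ a ∈ A, ∃ b ∈ B, g = a * b) →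
    ¬ Group.IsSolvable G → (∀ N : Subgroup G, N.Normal → Group.IsSolvable N → N = ⊥) →
    ∀ M : Subgroup G, IsCoatom M → B ≤ M → M.normalCore = ⊥ := by
  intro n
  induction n using Nat.strong_induction_on with
  | _ n ih =>
    intro G _ _ hn A B hA hB hAB hns hR M hM hBM
    classical
    by_contra hKne
    set K := M.normalCore with hKdef
    haveI hKn : K.Normal := Subgroup.normalCore_normal M
    have hKM : K ≤ M := Subgroup.normalCore_le M
    have hKns : ¬ Group.IsSolvable K := fun hs => hKne (hR K hKn hs)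
    have hRK := radical_trivial_of_normal K hR
    haveI := hA
    haveI := hB
    set AK := A.subgroupOf K with hAK
    set BK := B.subgroupOf K with hBK
    have hAKc : IsCyclic AK := by
      refine isCyclic_of_injective ((K.subtype.comp AK.subtype).codRestrict A fun x => x.2) ?_
      intro x y e
      exact Subtype.ext (Subtype.ext (congrArg Subtype.val e : _))
    have hBKz : IsZGroup BK :=
      IsZGroup.of_injective (f := (K.subtype.comp BK.subtype).codRestrict B fun x => x.2) (by
        intro x y e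
        exact Subtype.ext (Subtype.ext (congrArg Subtype.val e : _)))
    have hABK : ∀ k : K, ∃ a ∈ AK, ∃ b ∈ BK, k = a * b := by
      intro k
      obtain ⟨a, ha, b, hb, e⟩ := hAB k
      have haM : a ∈ M := by
        have := mul_mem (hKM k.2) (inv_mem (hBM hb))
        rw [e] at this; simpa using this
      have haK : a ∈ K := inf_le_core hA hBM hAB ⟨ha, haM⟩
      have hbK : b ∈ K := by
        have := mul_mem (inv_mem haK) k.2
        rw [e] at this; simpa using this
      exact ⟨⟨a, haK⟩, ha, ⟨b, hbK⟩, hb, Subtype.ext e⟩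
    have hlt : Nat.card K < n := by
      rw [← hn]
      refine lt_of_le_of_ne (Subgroup.card_le_card_group K) fun e => hM.1 ?_
      exact eq_top_iff.2 ((Subgroup.eq_top_of_card_eq K e).ge.trans hKM)
    obtain ⟨M1, hM1, hBM1⟩ : ∃ M1 : Subgroup K, IsCoatom M1 ∧ BK ≤ M1 := by
      rcases eq_top_or_exists_le_coatom BK with htop | h
      · exfalso
        apply hKns
        haveI := hBKz
        haveI : Group.IsSolvable BK := inferInstance
        rw [htop] at this
        exact Group.isSolvable_of_surjective (f := (Subgroup.topEquiv (G := K)).toMonoidHom)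
          Subgroup.topEquiv.surjective
      · exact h
    have hcore1 := ih _ hlt K rfl AK BK hAKc hBKz hABK hKns hRK M1 hM1 hBM1
    letI : Fintype (K ⧸ M1) := Fintype.ofFinite _
    set ρ := cosetHom M1 with hρ
    have hρinj : Function.Injective ρ := by
      rw [injective_iff_map_eq_one]
      intro k hk
      rwa [cosetHom_eq_one, hcore1, Subgroup.mem_bot] at hk
    have hns1 : ¬ Group.IsSolvable ρ.range := by
      intro hs
      exact hKns (Group.isSolvable_of_isSolvable_injective (f := ρ.rangeRestrict)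
        (fun x y e => hρinj (congrArg Subtype.val e)))
    obtain ⟨hH, hC⟩ := coset_classify AK BK M1 hAKc hBKz hABK hM1 hBM1 hns1
    have hAM1 : AK ⊓ M1 = ⊥ := le_bot_iff.1 (hcore1 ▸ inf_le_core hAKc hBM1 hABK)
    let o : K ⧸ M1 := QuotientGroup.mk 1
    have hstab : ∀ k : K, ρ k o = o ↔ k ∈ M1 := fun k => by
      show k • (QuotientGroup.mk 1 : K ⧸ M1) = _ ↔ _
      rw [MulAction.Quotient.smul_mk, smul_eq_mul, mul_one, QuotientGroup.eq, mul_one]
      exact inv_mem_iff
    have hM1B : ∀ k ∈ M1, k ∈ BK := by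
      intro k hk
      obtain ⟨a, ha, b, hb, rfl⟩ := hABK k
      have ha1 : a ∈ M1 := by simpa using mul_mem hk (inv_mem (hBM1 hb))
      have : a = 1 := Subgroup.mem_bot.1 (hAM1 ▸ (⟨ha, ha1⟩ : a ∈ AK ⊓ M1))
      rw [this, one_mul]; exact hb
    obtain ⟨c, hco, -⟩ := hH.exists_third o o
    have h2n : 2 ∣ Fintype.card (K ⧸ M1) := even_iff_two_dvd.1 hH.even
    have heA : Even (Nat.card (A ⊓ K : Subgroup G)) := by
      rw [even_iff_two_dvd]
      refine h2n.trans ?_
      rw [← hH.card_A]
      refine (Subgroup.card_map_dvd AK ρ).trans (dvd_of_eq ?_)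
      exact Nat.card_congr ⟨fun x => ⟨((x : K) : G), Subgroup.mem_inf.2 ⟨x.2, (x : K).2⟩⟩,
        fun x => ⟨⟨x, x.2.2⟩, x.2.1⟩, fun _ => rfl, fun _ => rfl⟩
    have heB : Even (Nat.card (B ⊓ K : Subgroup G)) := by
      rw [even_iff_two_dvd]
      have h1 : 2 ∣ Nat.card (St ρ.range o) := by
        rw [hH.card_St (b := c) (Ne.symm hco)]
        exact Dvd.dvd.mul_left (even_iff_two_dvd.1 (hH.Dd_even (Ne.symm hco))) _
      refine h1.trans ?_
      have h2 : St ρ.range o = BK.map ρ := by
        ext x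
        constructor
        · rintro ⟨⟨k, rfl⟩, hk⟩
          exact ⟨k, hM1B k ((hstab k).1 hk), rfl⟩
        · rintro ⟨k, hk, rfl⟩
          exact mem_St.2 ⟨⟨k, rfl⟩, (hstab k).2 (hBM1 hk)⟩
      rw [h2]
      refine (Subgroup.card_map_dvd BK ρ).trans (dvd_of_eq ?_)
      exact Nat.card_congr ⟨fun x => ⟨((x : K) : G), Subgroup.mem_inf.2 ⟨x.2, (x : K).2⟩⟩,
        fun x => ⟨⟨x, x.2.2⟩, x.2.1⟩, fun _ => rfl, fun _ => rfl⟩
    -- the centraliser of `K` is a complement
    set C := Subgroup.centralizer (K : Set G) with hCdef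
    haveI : C.Normal := by rw [hCdef]; infer_instance
    have hKC : K ⊓ C = ⊥ := by
      refine hR _ inferInstance ?_
      letI : CommGroup (K ⊓ C : Subgroup G) :=
        { (inferInstance : Group (K ⊓ C : Subgroup G)) with
          mul_comm := fun x y => Subtype.ext
            (Subgroup.mem_centralizer_iff.1 y.2.2 x x.2.1) }
      infer_instance
    have hconj : ∀ g : G, ∃ k : K, ∀ x : K, g * x * g⁻¹ = (k : G) * x * (k : G)⁻¹ := by
      haveI hqf : Fact (Fintype.card (K ⧸ M1) - 1).Prime := ⟨hC.prime⟩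
      set q := Fintype.card (K ⧸ M1) - 1 with hq
      have hcardK : Nat.card K = Fintype.card (K ⧸ M1) * (q * (Fintype.card (K ⧸ M1) - 2)) := by
        rw [Nat.card_congr (MonoidHom.ofInjective hρinj).toEquiv, hH.card_G o, hH.card_St (Ne.symm hco),
          hC.card_two o c (Ne.symm hco)]
      set C1 : Subgroup K := (Cc ρ.range o).comap ρ with hC1
      have hCr : Cc ρ.range o ≤ ρ.range := (hH.Cc_le o).trans (St_le _ o)
      have hmapC1 : C1.map ρ = Cc ρ.range o := Subgroup.map_comap_eq_self hCr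
      have hcC1 : Nat.card C1 = q := by
        rw [Nat.card_congr (Subgroup.equivMapOfInjective C1 ρ hρinj).toEquiv, hmapC1, hH.card_Cc o]
      have hq3 : 3 ≤ q := by have := hH.four; omega
      have hidx : ¬ q ∣ C1.index := by
        have h1 := Subgroup.card_mul_index C1
        rw [hcC1, hcardK, mul_left_comm] at h1
        rw [Nat.eq_of_mul_eq_mul_left (by omega) h1]
        intro hd
        rcases hqf.out.dvd_mul.1 hd with h2 | h2
        · have h3 := Nat.dvd_sub h2 (dvd_refl q)
          rw [show Fintype.card (K ⧸ M1) - q = 1 by omega] at h3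
          exact hqf.out.not_dvd_one h3
        · have := Nat.le_of_dvd (by omega) h2
          omega
      have hp1 : IsPGroup q C1 := IsPGroup.of_card (n := 1) (by rw [hcC1, pow_one])
      let P : Sylow q K := hp1.toSylow hidx
      have hnorm : ∀ k : K, (∀ x ∈ C1, k * x * k⁻¹ ∈ C1) ↔ k ∈ M1 := by
        intro k
        constructor
        · intro hk
          rw [← hstab]
          by_contra hne
          obtain ⟨y, hy, hyc⟩ := hH.Cc_regular hco hne
          have hy1 : y ≠ 1 ∨ c = ρ k o := by
            by_cases h : y = 1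
            · right; rw [← hyc, h, Perm.one_apply]
            · exact Or.inl h
          haveI : Nontrivial C1 := Finite.one_lt_card_iff_nontrivial.1 (by rw [hcC1]; omega)
          obtain ⟨⟨x, hx⟩, hx1⟩ := exists_ne (1 : C1)
          have h1 : ρ (k * x * k⁻¹) ∈ Cc ρ.range o := hk x hx
          have h2 : ρ (k * x * k⁻¹) (ρ k o) = ρ k o := by
            rw [map_mul, map_mul, map_inv, Perm.mul_apply, Perm.mul_apply, ← Perm.mul_apply (ρ k)⁻¹,
              inv_mul_cancel, Perm.one_apply, (mem_St.1 (hH.Cc_le o hx)).2]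
          have h3 : ρ (k * x * k⁻¹) = 1 := hH.Cc_semireg (Ne.symm hne) h1 h2
          rw [map_eq_one_iff ρ hρinj, conj_eq_one_iff] at h3
          exact hx1 (Subtype.ext h3)
        · intro hk x hx
          show ρ (k * x * k⁻¹) ∈ Cc ρ.range o
          rw [map_mul, map_mul, map_inv]
          exact hH.Cc_normal (mem_St.2 ⟨⟨k, rfl⟩, (hstab k).2 hk⟩) hx
      intro g
      let φ : K ≃* K := MulAut.conjNormal g
      have hφp : IsPGroup q (C1.map φ.toMonoidHom) := hp1.map _
      obtain ⟨Q, hQ⟩ := hφp.exists_le_sylow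
      obtain ⟨k1, hk1⟩ := MulAction.exists_smul_eq K Q P
      let ψ : K ≃* K := φ.trans (MulAut.conj k1)
      have hψC : ∀ x ∈ C1, ψ x ∈ C1 := by
        intro x hx
        have h1 : φ x ∈ (Q : Subgroup K) := hQ ⟨x, hx, rfl⟩
        have h2 : ψ x ∈ ((k1 • Q : Sylow q K) : Subgroup K) := by
          have := Subgroup.smul_mem_pointwise_smul _ (MulAut.conj k1) _ h1
          simpa [ψ, Sylow.coe_subgroup_smul] using this
        rw [hk1] at h2
        exact h2
      have hψC' : ∀ y ∈ C1, ∃ x ∈ C1, ψ x = y := by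
        have heq : C1.map ψ.toMonoidHom = C1 := by
          refine Subgroup.eq_of_le_of_card_ge ?_ ?_
          · rintro _ ⟨x, hx, rfl⟩; exact hψC x hx
          · rw [← Nat.card_congr (Subgroup.equivMapOfInjective C1 _ ψ.injective).toEquiv]
        intro y hy
        rw [← heq] at hy
        exact hy
      have hψM : ∀ m ∈ M1, ψ m ∈ M1 := by
        intro m hm
        rw [← hnorm]
        intro y hy
        obtain ⟨x, hx, rfl⟩ := hψC' y hy
        rw [← map_inv, ← map_mul, ← map_mul]
        exact hψC _ ((hnorm m).2 hm x hx)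
      let f : K ⧸ M1 → K ⧸ M1 := Quotient.map' ψ fun x y hxy => by
        rw [QuotientGroup.leftRel_apply] at hxy ⊢
        rw [← map_inv, ← map_mul]
        exact hψM _ hxy
      have hfs : Function.Surjective f := by
        intro y
        induction y using QuotientGroup.induction_on with
        | H k => exact ⟨QuotientGroup.mk (ψ.symm k), congrArg QuotientGroup.mk (ψ.apply_symm_apply k)⟩
      let π : Perm (K ⧸ M1) := Equiv.ofBijective f ⟨Finite.injective_iff_surjective.2 hfs, hfs⟩
      have hπ : ∀ k, π * ρ k = ρ (ψ k) * π := by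
        intro k
        apply Equiv.ext
        intro x
        induction x using QuotientGroup.induction_on with
        | H y =>
          show (QuotientGroup.mk (ψ (k * y)) : K ⧸ M1) = QuotientGroup.mk (ψ k * ψ y)
          rw [map_mul]
      have hπH : π ∈ ρ.range := hC.mem_of_normalizes hH (by
        rintro _ ⟨k, rfl⟩
        exact ⟨ψ k, eq_mul_inv_of_mul_eq (hπ k).symm⟩)
      obtain ⟨k2, hk2⟩ := hπH
      refine ⟨k1⁻¹ * k2, fun x => ?_⟩
      have h1 : ψ x = k2 * x * k2⁻¹ := hρinj (by
        rw [map_mul, map_mul, map_inv, hk2]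
        exact eq_mul_inv_of_mul_eq (hπ x).symm)
      have h2 : φ x = (k1⁻¹ * k2) * x * (k1⁻¹ * k2)⁻¹ := by
        have h3 : k1 * φ x * k1⁻¹ = k2 * x * k2⁻¹ := h1
        calc φ x = k1⁻¹ * (k1 * φ x * k1⁻¹) * k1 := by group
          _ = (k1⁻¹ * k2) * x * (k1⁻¹ * k2)⁻¹ := by rw [h3]; group
      have := congrArg Subtype.val h2
      simpa [φ, MulAut.conjNormal_apply] using this
    have hdecomp : ∀ g : G, ∃ k ∈ K, ∃ x ∈ C, g = k * x := by
      intro g
      obtain ⟨k, hk⟩ := hconj g
      refine ⟨k, k.2, (k : G)⁻¹ * g, Subgroup.mem_centralizer_iff.2 fun y hy => ?_, by group⟩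
      have h1 := hk ⟨y, hy⟩
      simp only at h1
      calc y * ((k : G)⁻¹ * g) = (k : G)⁻¹ * ((k : G) * y * (k : G)⁻¹) * g := by group
        _ = (k : G)⁻¹ * (g * y * g⁻¹) * g := by rw [h1]
        _ = (k : G)⁻¹ * g * y := by group
    -- the quotient is again a primitive insoluble product
    have hnsQ : ¬ Group.IsSolvable (cosetHom M).range := by
      intro hs
      haveI := hs
      have hinj : Function.Injective ((cosetHom M).rangeRestrict.comp C.subtype) := by
        rw [injective_iff_map_eq_one]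
        intro x hx
        have h1 : (x : G) ∈ K := cosetHom_eq_one.1 (congrArg Subtype.val hx)
        have h2 : (x : G) ∈ K ⊓ C := ⟨h1, x.2⟩
        rw [hKC, Subgroup.mem_bot] at h2
        exact Subtype.ext h2
      have hCb : C = ⊥ := hR C inferInstance (Group.isSolvable_of_isSolvable_injective hinj)
      apply hM.1
      rw [eq_top_iff]
      intro g _
      obtain ⟨k, hk, x, hx, rfl⟩ := hdecomp g
      rw [hCb, Subgroup.mem_bot] at hx
      rw [hx, mul_one]
      exact hKM hk
    letI : Fintype (G ⧸ M) := Fintype.ofFinite _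
    obtain ⟨hHQ, -⟩ := coset_classify A B M hA hB hAB hM hBM hnsQ
    have himgcard : ∀ X : Subgroup G, Nat.card (X.map (cosetHom M)) = Nat.card (X.map (QuotientGroup.mk' K)) := by
      intro X
      have key : ∀ {P : Type u} [Group P] (F : G →* P), F.ker = K → Nat.card (X.map F) = (K.subgroupOf X).index := by
        intro P _ F hF
        have h1 := Subgroup.index_ker (F.subgroupMap X)
        rw [MonoidHom.range_eq_top.2 (F.subgroupMap_surjective X), Subgroup.card_top] at h1
        rw [← h1]
        congr 1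
        ext x
        rw [MonoidHom.mem_ker, Subgroup.mem_subgroupOf, ← hF, MonoidHom.mem_ker]
        exact ⟨fun e => congrArg Subtype.val e, fun e => Subtype.ext e⟩
      rw [key (cosetHom M) (by ext x; rw [MonoidHom.mem_ker, cosetHom_eq_one]),
        key (QuotientGroup.mk' K) (QuotientGroup.ker_mk' K)]
    have heA2 : Even (Nat.card (A.map (QuotientGroup.mk' K))) := by
      rw [← himgcard, hHQ.card_A]; exact hHQ.even
    have heB2 : Even (Nat.card (B.map (QuotientGroup.mk' K))) := by
      let oM : G ⧸ M := QuotientGroup.mk 1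
      obtain ⟨c', hc', -⟩ := hHQ.exists_third oM oM
      have h1 : Even (Nat.card (St (cosetHom M).range oM)) := by
        rw [hHQ.card_St (b := c') (Ne.symm hc')]
        exact (hHQ.Dd_even (Ne.symm hc')).mul_left _
      have h2 : St (cosetHom M).range oM = B.map (cosetHom M) := by
        ext x
        constructor
        · rintro ⟨⟨g, rfl⟩, hg⟩
          obtain ⟨a, ha, b, hb, rfl⟩ := hAB g
          have hgM : a * b ∈ M := by
            have hg' : ((a * b) • (QuotientGroup.mk 1 : G ⧸ M)) = QuotientGroup.mk 1 := hg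
            rw [MulAction.Quotient.smul_mk, smul_eq_mul, mul_one, QuotientGroup.eq, mul_one] at hg'
            exact inv_mem_iff.1 hg'
          have haM : a ∈ M := by simpa using mul_mem hgM (inv_mem (hBM hb))
          exact ⟨b, hb, by rw [map_mul, cosetHom_eq_one.2 (inf_le_core hA hBM hAB ⟨ha, haM⟩), one_mul]⟩
        · rintro ⟨b, hb, rfl⟩
          refine mem_St.2 ⟨⟨b, rfl⟩, ?_⟩
          show b • (QuotientGroup.mk 1 : G ⧸ M) = QuotientGroup.mk 1
          rw [MulAction.Quotient.smul_mk, smul_eq_mul, mul_one, QuotientGroup.eq, mul_one]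
          exact inv_mem (hBM hb)
      rw [h2, himgcard] at h1
      exact h1
    haveI : IsZGroup A := inferInstance
    obtain ⟨vA, hvA, hoA, hvAK⟩ := exists_four (X := A) inferInstance heA heA2
    obtain ⟨vB, hvB, hoB, hvBK⟩ := exists_four (X := B) inferInstance heB heB2
    have key : ∀ v : G, orderOf v = 4 → ∀ hv : v * v ∈ K,
        orderOf (ρ ⟨v * v, hv⟩) = 2 ∧ Perm.sign (ρ ⟨v * v, hv⟩) = 1 := by
      intro v hov hv
      constructor
      · rw [orderOf_injective ρ hρinj, Subgroup.orderOf_mk, ← pow_two, orderOf_pow' _ two_ne_zero, hov]; rfl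
      · obtain ⟨k, hk, x, hx, rfl⟩ := hdecomp v
        have hxk : x * k = k * x := (Subgroup.mem_centralizer_iff.1 hx k hk).symm
        have h1 : k * x * (k * x) = (k * k) * (x * x) := by
          calc k * x * (k * x) = k * (x * k) * x := by group
            _ = (k * k) * (x * x) := by rw [hxk]; group
        have h2 : x * x ∈ K ⊓ C := by
          refine Subgroup.mem_inf.2 ⟨?_, mul_mem hx hx⟩
          have := mul_mem (inv_mem (mul_mem hk hk)) (h1 ▸ hv)
          rwa [← mul_assoc, inv_mul_cancel, one_mul] at this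
        rw [hKC, Subgroup.mem_bot] at h2
        have h3 : (⟨k * x * (k * x), hv⟩ : K) = ⟨k, hk⟩ * ⟨k, hk⟩ := Subtype.ext (by
          show k * x * (k * x) = k * k
          rw [h1, h2, mul_one])
        rw [h3, map_mul, map_mul]
        rcases Int.units_eq_one_or (Perm.sign (ρ ⟨k, hk⟩)) with h | h <;> rw [h] <;> decide
    obtain ⟨hzA, hsA⟩ := key vA hoA hvAK
    obtain ⟨hzB, hsB⟩ := key vB hoB hvBK
    obtain ⟨_, ⟨k, rfl⟩, hk⟩ := hC.conj_of_sign hH ⟨_, rfl⟩ ⟨_, rfl⟩ hzA hzB (hsA.trans hsB.symm)
    rw [← map_inv, ← map_mul, ← map_mul] at hk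
    have hk' := hρinj hk
    obtain ⟨a, ha, b, hb, hkab⟩ := hABK k⁻¹
    set zA : K := ⟨vA * vA, hvAK⟩ with hzAdef
    set zB : K := ⟨vB * vB, hvBK⟩ with hzBdef
    have haA : zA ∈ AK := mul_mem hvA hvA
    have hcomm : a * zA = zA * a := by
      letI := (IsCyclic.commGroup : CommGroup AK)
      exact congrArg Subtype.val (mul_comm (⟨a, ha⟩ : AK) ⟨zA, haA⟩)
    have hk2 : k = b⁻¹ * a⁻¹ := by rw [← mul_inv_rev, ← hkab, inv_inv]
    have h5 : zA = b * zB * b⁻¹ := by
      rw [← hk', hk2]
      calc zA = a⁻¹ * (a * zA) := by group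
        _ = a⁻¹ * zA * a := by rw [hcomm]; group
        _ = b * (b⁻¹ * a⁻¹ * zA * (b⁻¹ * a⁻¹)⁻¹) * b⁻¹ := by group
    have h6 : zA ∈ AK ⊓ M1 := Subgroup.mem_inf.2
      ⟨haA, hBM1 (h5 ▸ mul_mem (mul_mem hb (mul_mem hvB hvB : zB ∈ BK)) (inv_mem hb))⟩
    rw [hAM1, Subgroup.mem_bot] at h6
    rw [h6, map_one, orderOf_one] at hzA
    omega

end H71.CycReg
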