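import Cfsg.Agent.H71.CycReg.Schur

/-!
The derived subgroup of a point stabiliser is regular on the other points.
-/

set_option autoImplicit false
set_option linter.unusedSectionVars false

namespace H71.CycReg

open Equiv

variable {Ω : Type*} [Fintype Ω] [DecidableEq Ω]

/-- The derived subgroup of a point stabiliser. -/
def Cc (G : Subgroup (Perm Ω)) (a : Ω) : Subgroup (Perm Ω) := ⁅St G a, St G a⁆

namespace Hyp

variable {G A : Subgroup (Perm Ω)} (h : Hyp G A)
include h

theorem Cc_le (a : Ω) : Cc G a ≤ St G a := Subgroup.commutator_le_self _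

theorem Cc_eq_map (a : Ω) : (commutator (St G a)).map (St G a).subtype = Cc G a :=
  Subgroup.map_subtype_commutator _

theorem Cc_cyclic (a : Ω) : IsCyclic (Cc G a) := by
  haveI := h.hZ a
  haveI := IsZGroup.isCyclic_commutator (St G a)
  rw [← h.Cc_eq_map a]
  exact isCyclic_of_surjective _
    (Subgroup.equivMapOfInjective (commutator (St G a)) _ (St G a).subtype_injective).surjective

theorem Cc_comm {a : Ω} {x y : Perm Ω} (hx : x ∈ Cc G a) (hy : y ∈ Cc G a) : x * y = y * x := by
  haveI := h.Cc_cyclic a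
  letI := (IsCyclic.commGroup : CommGroup (Cc G a))
  exact congrArg Subtype.val (mul_comm (⟨x, hx⟩ : Cc G a) ⟨y, hy⟩)

theorem Cc_normal {a : Ω} {m x : Perm Ω} (hm : m ∈ St G a) (hx : x ∈ Cc G a) :
    m * x * m⁻¹ ∈ Cc G a := by
  rw [← h.Cc_eq_map a] at hx ⊢
  obtain ⟨y, hy, rfl⟩ := hx
  exact ⟨⟨m, hm⟩ * y * ⟨m, hm⟩⁻¹, Subgroup.Normal.conj_mem inferInstance y hy _, rfl⟩

theorem comm_mem_Cc {a : Ω} {m x : Perm Ω} (hm : m ∈ St G a) (hx : x ∈ St G a) :
    m * x * m⁻¹ * x⁻¹ ∈ Cc G a :=
  Subgroup.commutator_mem_commutator hm hx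

theorem card_Cc_mul (a : Ω) :
    ∃ i, Nat.card (St G a) = Nat.card (Cc G a) * i ∧ (Nat.card (Cc G a)).Coprime i := by
  haveI := h.hZ a
  refine ⟨(commutator (St G a)).index, ?_, ?_⟩
  · rw [← h.Cc_eq_map a,
      ← Nat.card_congr (Subgroup.equivMapOfInjective (commutator (St G a)) _ (St G a).subtype_injective).toEquiv]
    exact (Subgroup.card_mul_index _).symm
  · rw [← h.Cc_eq_map a,
      ← Nat.card_congr (Subgroup.equivMapOfInjective (commutator (St G a)) _ (St G a).subtype_injective).toEquiv]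
    exact IsZGroup.coprime_commutator_index (St G a)

theorem Cc_semireg {a b : Ω} (hab : a ≠ b) {x : Perm Ω} (hx : x ∈ Cc G a) (hxb : x b = b) :
    x = 1 := by
  by_contra hne
  obtain ⟨r, hr, hrd⟩ := Nat.exists_prime_and_dvd (n := orderOf x) (by simpa [orderOf_eq_one_iff] using hne)
  set y := x ^ (orderOf x / r) with hy
  have hoy : orderOf y = r := by
    rw [hy, orderOf_pow_orderOf_div (orderOf_pos x).ne' hrd]
  have hyC : y ∈ Cc G a := pow_mem hx _
  have hyb : y b = b := by
    rw [hy]; exact Perm.pow_apply_eq_self_of_apply_eq_self hxb _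
  refine h.prime_normal_semireg hab (h.Cc_le a hyC) hr hoy (fun m hm => ?_) hyb
  have heq := eq_of_le_cyclic (h.Cc_cyclic a) (Subgroup.zpowers_le.2 (h.Cc_normal hm hyC))
    (Subgroup.zpowers_le.2 hyC) (by
      rw [Nat.card_zpowers, Nat.card_zpowers, show m * y * m⁻¹ = MulAut.conj m y from rfl,
        (MulAut.conj m).orderOf_eq])
  exact heq ▸ Subgroup.mem_zpowers _

theorem card_St {a b : Ω} (hab : a ≠ b) :
    Nat.card (St G a) = (Fintype.card Ω - 1) * Nat.card (Dd G a b) := by
  classical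
  have := card_eq_orbit_mul (St G a) b {x | x ≠ a} (fun g hg => by
    intro e
    apply hab
    apply g.injective
    rw [e]; exact (mem_St.1 hg).2) (fun c hc => h.stab_trans (Ne.symm hab) hc)
  rw [this]
  congr 1
  · rw [show {x : Ω | x ≠ a} = ({a} : Set Ω)ᶜ from rfl, Set.ncard_compl, Set.ncard_singleton,
      Nat.card_eq_fintype_card]
  · congr 2
    ext g
    simp only [Subgroup.mem_inf, mem_Dd, mem_St, MulAction.mem_stabilizer_iff, Perm.smul_def, and_assoc]

theorem card_G (a : Ω) : Nat.card G = Fintype.card Ω * Nat.card (St G a) := by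
  rw [card_eq_orbit_mul G a Set.univ (fun _ _ => trivial) (fun c _ => h.exists_mem_map a c),
    Set.ncard_univ, Nat.card_eq_fintype_card]
  rfl

/-- Every prime divisor of `n - 1` divides the derived subgroup of the point stabiliser. -/
theorem prime_dvd_Cc (a : Ω) {r : ℕ} (hr : r.Prime) (hrd : r ∣ Fintype.card Ω - 1) :
    r ∣ Nat.card (Cc G a) := by
  classical
  by_contra hnd
  haveI := Fact.mk hr
  haveI := h.hZ a
  obtain ⟨b, hba, -⟩ := h.exists_third a a
  have hrn : ¬ r ∣ Fintype.card Ω := by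
    intro hd
    have := Nat.dvd_sub hd hrd
    rw [show Fintype.card Ω - (Fintype.card Ω - 1) = 1 by have := h.four; omega] at this
    exact hr.not_dvd_one this
  obtain ⟨R0⟩ : Nonempty (Sylow r (St G a)) := inferInstance
  set R : Subgroup (Perm Ω) := (R0 : Subgroup (St G a)).map (St G a).subtype with hRdef
  have hRM : R ≤ St G a := Subgroup.map_subtype_le _
  have hRG : R ≤ G := hRM.trans (St_le G a)
  have hRp : IsPGroup r R := R0.2.map _
  have hcR : Nat.card R = Nat.card R0 :=
    (Nat.card_congr (Subgroup.equivMapOfInjective _ _ (St G a).subtype_injective).toEquiv).symm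
  have hidx : Nat.card (St G a) = Nat.card R * (R0 : Subgroup (St G a)).index := by
    rw [hcR]; exact (Subgroup.card_mul_index _).symm
  have hnidx : ¬ r ∣ (R0 : Subgroup (St G a)).index := R0.not_dvd_index
  have hRidx : ¬ r ∣ (R.subgroupOf G).index := by
    have h1 := Subgroup.card_mul_index (R.subgroupOf G)
    rw [Nat.card_congr (Subgroup.subgroupOfEquivOfLe hRG).toEquiv, h.card_G a, hidx,
      mul_left_comm] at h1
    rw [Nat.eq_of_mul_eq_mul_left Nat.card_pos h1]
    intro hd
    exact (hr.dvd_mul.1 hd).elim hrn hnidx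
  have honly : ∀ c, c ≠ a → ∃ x ∈ R, x c ≠ c := by
    intro c hca
    by_contra hcon
    push Not at hcon
    have hle : R ≤ Dd G a c := fun x hx => mem_Dd.2 ⟨hRG hx, (mem_St.1 (hRM hx)).2, hcon x hx⟩
    have h1 := h.card_St (Ne.symm hca)
    obtain ⟨k, hk⟩ := Subgroup.card_dvd_of_le hle
    obtain ⟨j, hj⟩ := hrd
    rw [hk, hj, hidx, show r * j * (Nat.card R * k) = Nat.card R * (r * (j * k)) by ring] at h1
    exact hnidx ⟨j * k, Nat.eq_of_mul_eq_mul_left Nat.card_pos h1⟩
  obtain ⟨K, hKG, hK0d, hKn, hKmem⟩ := exists_complement hr hRG hRp hRidx (fun g hg hnorm x hx => by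
    have hga : g a = a := by
      by_contra hne
      obtain ⟨y, hy, hyne⟩ := honly _ hne
      apply hyne
      have h2 : (g⁻¹ * y * g) a = a := (mem_St.1 (hRM (hnorm y hy).1)).2
      rw [Perm.mul_apply, Perm.mul_apply, Perm.inv_eq_iff_eq] at h2
      exact h2
    have h1 : g * x * g⁻¹ * x⁻¹ ∈ Cc G a := h.comm_mem_Cc (mem_St.2 ⟨hg, hga⟩) (hRM hx)
    have h2 : g * x * g⁻¹ * x⁻¹ ∈ R := mul_mem (hnorm x hx).2 (inv_mem hx)
    have h3 : g * x * g⁻¹ * x⁻¹ = 1 := by
      obtain ⟨k, hk⟩ := hRp.exists_card_eq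
      have hco : Disjoint R (Cc G a) := disjoint_iff.2 (Subgroup.inf_eq_bot_of_coprime (by
        rw [hk]; exact (Nat.Coprime.pow_left k ((Nat.Prime.coprime_iff_not_dvd hr).2 hnd))))
      exact Subgroup.disjoint_def.1 hco h2 h1
    exact (mul_inv_eq_iff_eq_mul.1 (mul_inv_eq_one.1 h3)).symm)
  have hAK : A ≤ K := fun α hα => hKmem α (h.le hα) (by
    refine Nat.Coprime.coprime_dvd_left (Subgroup.orderOf_dvd_natCard A hα) ?_
    rw [h.card_A, Nat.coprime_comm, Nat.Prime.coprime_iff_not_dvd hr]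
    exact hrn)
  have hcomp : ¬ (Fintype.card Ω).Prime := fun hp => by
    have := h.four
    obtain ⟨k, hk⟩ := h.even
    rcases hp.eq_one_or_self_of_dvd 2 ⟨k, by omega⟩ with e | e <;> omega
  have h2K := two_of_primitive hAK h.cyc h.reg (by have := h.four; omega) hcomp
    (h.primitive_of_normal hAK hKG hKn)
  have hKa : Fintype.card Ω - 1 ∣ Nat.card (St K a) := by
    have h0 := card_eq_orbit_mul (St K a) b {x | x ≠ a} (fun g hg => by
      intro e
      apply hba
      apply g.injective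
      rw [e]; exact (mem_St.1 hg).2.symm) (fun c hc => by
        obtain ⟨g, hg, hga, hgb⟩ := h2K a b a c (Ne.symm hba) (Ne.symm hc)
        exact ⟨g, mem_St.2 ⟨hg, hga⟩, hgb⟩)
    rw [h0, show {x : Ω | x ≠ a} = ({a} : Set Ω)ᶜ from rfl, Set.ncard_compl, Set.ncard_singleton,
      Nat.card_eq_fintype_card]
    exact dvd_mul_right _ _
  apply hK0d
  exact (hrd.trans hKa).trans (Subgroup.card_dvd_of_le (St_le K a))

theorem card_Cc (a : Ω) : Nat.card (Cc G a) = Fintype.card Ω - 1 := by
  classical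
  obtain ⟨b, hba, -⟩ := h.exists_third a a
  obtain ⟨i, hi, hcop⟩ := h.card_Cc_mul a
  have hdvd : Fintype.card Ω - 1 ∣ Nat.card (Cc G a) := by
    refine Nat.Coprime.dvd_of_dvd_mul_right (n := i) ?_ (by
      rw [← hi, h.card_St (Ne.symm hba)]; exact Dvd.intro _ rfl)
    refine Nat.coprime_of_dvd fun r hr hrd hri => ?_
    have := Nat.dvd_gcd (h.prime_dvd_Cc a hr hrd) hri
    rw [hcop] at this
    exact hr.not_dvd_one this
  have hle : Nat.card (Cc G a) ≤ Fintype.card Ω - 1 := by
    refine le_trans (Nat.card_le_card_of_injective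
      (β := {x : Ω // x ≠ a}) (fun c => ⟨(c : Perm Ω) b, fun e => hba ((c : Perm Ω).injective
        (e.trans (mem_St.1 (h.Cc_le a c.2)).2.symm))⟩) ?_) ?_
    · intro c d e
      have e' : (c : Perm Ω) b = (d : Perm Ω) b := congrArg Subtype.val e
      have := h.Cc_semireg (Ne.symm hba) (mul_mem (inv_mem d.2) c.2) (by
        rw [Perm.mul_apply, e', Perm.inv_eq_iff_eq])
      exact Subtype.ext (inv_mul_eq_one.1 this).symm
    · rw [Nat.card_eq_fintype_card, Fintype.card_subtype_compl]; simp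
  exact le_antisymm hle (Nat.le_of_dvd Nat.card_pos hdvd)

theorem Cc_regular {a b c : Ω} (hb : b ≠ a) (hc : c ≠ a) : ∃ x ∈ Cc G a, x b = c := by
  classical
  let f : Cc G a → {x : Ω // x ≠ a} := fun x => ⟨(x : Perm Ω) b, fun e => hb ((x : Perm Ω).injective
        (e.trans (mem_St.1 (h.Cc_le a x.2)).2.symm))⟩
  have hinj : Function.Injective f := by
    intro x d e
    have e' : (x : Perm Ω) b = (d : Perm Ω) b := congrArg Subtype.val e
    have := h.Cc_semireg (Ne.symm hb) (mul_mem (inv_mem d.2) x.2) (by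
      rw [Perm.mul_apply, e', Perm.inv_eq_iff_eq])
    exact Subtype.ext (inv_mul_eq_one.1 this).symm
  have hbij := (Nat.bijective_iff_injective_and_card f).2 ⟨hinj, by
    rw [h.card_Cc a, Nat.card_eq_fintype_card, Fintype.card_subtype_compl]; simp⟩
  obtain ⟨x, hx⟩ := hbij.2 ⟨c, hc⟩
  exact ⟨x, x.2, congrArg Subtype.val hx⟩

end Hyp

end H71.CycReg
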