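import Mathlib

/-!
General helpers for groups with a regular cyclic subgroup.
-/

set_option autoImplicit false
set_option linter.unusedSectionVars false

namespace H71.CycReg

open Equiv

variable {P : Type*} [Group P] [Finite P]

/-- Subgroups of a cyclic subgroup with the same order are equal. -/
theorem eq_of_le_cyclic {S X Y : Subgroup P} (hS : IsCyclic S) (hX : X ≤ S) (hY : Y ≤ S)
    (h : Nat.card X = Nat.card Y) : X = Y := by
  classical
  haveI := hS
  haveI : Fintype S := Fintype.ofFinite S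
  have key : ∀ Z : Subgroup P, Z ≤ S → ∀ s : S, s ^ Nat.card Z = 1 → (s : P) ∈ Z := by
    intro Z hZ s hs
    have hsub : Finset.univ.filter (fun a : S => (a : P) ∈ Z) ⊆
        Finset.univ.filter (fun a : S => a ^ Nat.card Z = 1) := by
      intro a ha
      simp only [Finset.mem_filter, Finset.mem_univ, true_and] at ha ⊢
      have := pow_card_eq_one' (x := (⟨(a : P), ha⟩ : Z))
      apply Subtype.ext
      rw [SubmonoidClass.coe_pow]
      exact congrArg Subtype.val this
    have hc : (Finset.univ.filter (fun a : S => (a : P) ∈ Z)).card = Nat.card Z := by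
      rw [← Nat.card_congr (Subgroup.subgroupOfEquivOfLe hZ).toEquiv, Nat.card_eq_fintype_card,
        Fintype.card_subtype]
      rfl
    have heq := Finset.eq_of_subset_of_card_le hsub
      (le_of_le_of_eq (IsCyclic.card_pow_eq_one_le Nat.card_pos) hc.symm)
    have : s ∈ Finset.univ.filter (fun a : S => (a : P) ∈ Z) := by
      rw [heq]; simp [hs]
    simpa using this
  ext g
  constructor
  · intro hg
    refine key Y hY ⟨g, hX hg⟩ ?_
    have := pow_card_eq_one' (x := (⟨g, hg⟩ : X))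
    rw [← h]
    exact Subtype.ext ((SubmonoidClass.coe_pow _ _).trans (congrArg Subtype.val this))
  · intro hg
    refine key X hX ⟨g, hY hg⟩ ?_
    have := pow_card_eq_one' (x := (⟨g, hg⟩ : Y))
    rw [h]
    exact Subtype.ext ((SubmonoidClass.coe_pow _ _).trans (congrArg Subtype.val this))

/-- Two elements of order two of a cyclic subgroup are equal. -/
theorem invol_unique {S : Subgroup P} (hS : IsCyclic S) {x y : P} (hx : x ∈ S) (hy : y ∈ S)
    (hox : orderOf x = 2) (hoy : orderOf y = 2) : x = y := by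
  have h := eq_of_le_cyclic hS (Subgroup.zpowers_le.2 hx) (Subgroup.zpowers_le.2 hy)
    (by rw [Nat.card_zpowers, Nat.card_zpowers, hox, hoy])
  have hmem : x ∈ Subgroup.zpowers y := h ▸ Subgroup.mem_zpowers x
  obtain ⟨n, hn⟩ := Subgroup.mem_zpowers_iff.1 hmem
  rw [← hn, ← zpow_mod_orderOf, hoy]
  rcases Int.emod_two_eq_zero_or_one n with h0 | h0
  · exfalso
    rw [← zpow_mod_orderOf, hoy] at hn
    simp only [Nat.cast_ofNat, h0, zpow_zero] at hn
    rw [← hn, orderOf_one] at hox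
    omega
  · simp [h0]

/-- In a Z-group the subgroups of a given prime order are conjugate. -/
theorem zgroup_conj {M : Subgroup P} (hM : IsZGroup M) {x y : P} (hx : x ∈ M) (hy : y ∈ M)
    {r : ℕ} (hr : r.Prime) (hox : orderOf x = r) (hoy : orderOf y = r) :
    ∃ m ∈ M, Subgroup.zpowers (m * x * m⁻¹) = Subgroup.zpowers y := by
  haveI := hM
  haveI := Fact.mk hr
  have hpg : ∀ u : M, orderOf u = r → IsPGroup r (Subgroup.zpowers u) := fun u hu =>
    IsPGroup.of_card (n := 1) (by rw [Nat.card_zpowers, hu, pow_one])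
  have hx' : orderOf (⟨x, hx⟩ : M) = r := by rw [← Subgroup.orderOf_coe]; exact hox
  have hy' : orderOf (⟨y, hy⟩ : M) = r := by rw [← Subgroup.orderOf_coe]; exact hoy
  obtain ⟨P1, hP1⟩ := (hpg _ hx').exists_le_sylow
  obtain ⟨Q, hQ⟩ := (hpg _ hy').exists_le_sylow
  obtain ⟨g, rfl⟩ := MulAction.exists_smul_eq M P1 Q
  refine ⟨g, g.2, ?_⟩
  have hmem : g * (⟨x, hx⟩ : M) * g⁻¹ ∈ ((g • P1 : Sylow r M) : Subgroup M) := by
    have := Subgroup.smul_mem_pointwise_smul _ (MulAut.conj g) _ (hP1 (Subgroup.mem_zpowers _))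
    simpa [Sylow.coe_subgroup_smul] using this
  have heq := eq_of_le_cyclic (inferInstance : IsCyclic ((g • P1 : Sylow r M) : Subgroup M))
    (Subgroup.zpowers_le.2 hmem) hQ
    (by rw [Nat.card_zpowers, Nat.card_zpowers, hy', ← hx',
      show g * (⟨x, hx⟩ : M) * g⁻¹ = MulAut.conj g (⟨x, hx⟩ : M) from rfl,
      (MulAut.conj g).orderOf_eq])
  have := congrArg (Subgroup.map M.subtype) heq
  rw [MonoidHom.map_zpowers, MonoidHom.map_zpowers] at this
  simpa using this

/-- Conjugating a generator into its subgroup gives an element of the normaliser. -/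
theorem mem_normalizer_zpowers {m x : P} (h : m * x * m⁻¹ ∈ Subgroup.zpowers x) :
    m ∈ Subgroup.normalizer ((Subgroup.zpowers x : Subgroup P) : Set P) := by
  have heq : Subgroup.zpowers (MulAut.conj m x) = Subgroup.zpowers x :=
    eq_of_le_cyclic (Subgroup.isCyclic_zpowers x) (Subgroup.zpowers_le.2 h) le_rfl
      (by rw [Nat.card_zpowers, Nat.card_zpowers, (MulAut.conj m).orderOf_eq])
  rw [Subgroup.mem_normalizer_iff]
  intro y
  have key : ∀ y : P, y ∈ Subgroup.zpowers (MulAut.conj m x) ↔ m⁻¹ * y * m ∈ Subgroup.zpowers x := by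
    intro y
    simp only [Subgroup.mem_zpowers_iff]
    refine exists_congr fun n => ?_
    rw [← map_zpow, MulAut.conj_apply]
    constructor <;> intro e
    · rw [← e]; simp [mul_assoc]
    · rw [e]; simp [mul_assoc]
  conv_rhs => rw [← heq, key]
  simp [mul_assoc]

/-- Burnside's transfer theorem, for a subgroup of an ambient group. -/
theorem exists_complement {G R : Subgroup P} {r : ℕ} (hr : r.Prime) (hRG : R ≤ G)
    (hRp : IsPGroup r R) (hidx : ¬ r ∣ (R.subgroupOf G).index)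
    (hc : ∀ g ∈ G, (∀ x ∈ R, g⁻¹ * x * g ∈ R ∧ g * x * g⁻¹ ∈ R) → ∀ x ∈ R, x * g = g * x) :
    ∃ K : Subgroup P, K ≤ G ∧ ¬ r ∣ Nat.card K ∧ (∀ g ∈ G, ∀ x ∈ K, g * x * g⁻¹ ∈ K) ∧
      ∀ g ∈ G, (orderOf g).Coprime r → g ∈ K := by
  haveI := Fact.mk hr
  obtain ⟨S, hS⟩ : ∃ S : Sylow r G, (S : Subgroup G) = R.subgroupOf G :=
    ⟨(hRp.of_equiv (Subgroup.subgroupOfEquivOfLe hRG).symm).toSylow hidx, rfl⟩
  have hn : Subgroup.normalizer ((S : Subgroup G) : Set G) ≤
      Subgroup.centralizer ((S : Subgroup G) : Set G) := by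
    intro g hg
    rw [hS] at hg ⊢
    rw [Subgroup.mem_centralizer_iff]
    intro x hx
    apply Subtype.ext
    refine hc g g.2 (fun y hy => ⟨?_, ?_⟩) x hx
    · exact ((Subgroup.mem_normalizer_iff''.1 hg) ⟨y, hRG hy⟩).1 hy
    · exact ((Subgroup.mem_normalizer_iff.1 hg) ⟨y, hRG hy⟩).1 hy
  obtain ⟨K0, hK0, hK0n, hK0m⟩ : ∃ K0 : Subgroup G, ¬ r ∣ Nat.card K0 ∧ K0.Normal ∧
      ∀ g : G, (orderOf g).Coprime r → g ∈ K0 := by
    refine ⟨(MonoidHom.transferSylow S hn).ker, MonoidHom.not_dvd_card_ker_transferSylow S hn,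
      MonoidHom.normal_ker _, fun g hco => ?_⟩
    rw [MonoidHom.mem_ker, ← orderOf_eq_one_iff]
    have h1 : orderOf (MonoidHom.transferSylow S hn g) ∣ orderOf g := orderOf_map_dvd _ _
    obtain ⟨k, hk⟩ := S.2.exists_card_eq
    obtain ⟨j, -, hj⟩ := (Nat.dvd_prime_pow hr).1
      (hk ▸ orderOf_dvd_natCard (MonoidHom.transferSylow S hn g))
    rw [hj] at h1 ⊢
    have h3 := Nat.Coprime.coprime_dvd_left h1 hco
    rcases Nat.eq_zero_or_pos j with rfl | hj0
    · rfl
    · exact absurd ((Nat.coprime_pow_left_iff hj0 _ _).1 h3) (by simp [Nat.coprime_self, hr.ne_one])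
  refine ⟨K0.map G.subtype, Subgroup.map_subtype_le _, ?_, ?_, fun g hg hco =>
    ⟨⟨g, hg⟩, hK0m _ (by rwa [Subgroup.orderOf_mk]), rfl⟩⟩
  · rwa [← Nat.card_congr (Subgroup.equivMapOfInjective K0 _ G.subtype_injective).toEquiv]
  · rintro g hg x ⟨y, hy, rfl⟩
    exact ⟨⟨g, hg⟩ * y * ⟨g, hg⟩⁻¹, hK0n.conj_mem y hy _, rfl⟩

variable {Ω : Type*} [Fintype Ω] [DecidableEq Ω]

/-- An element with an odd power equal to one is an even permutation. -/
theorem sign_eq_one_of_pow {σ : Perm Ω} {k : ℕ} (hk : Odd k) (h : σ ^ k = 1) :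
    Perm.sign σ = 1 := by
  rcases Int.units_eq_one_or (Perm.sign σ) with h1 | h1
  · exact h1
  · exfalso
    have := congrArg Perm.sign h
    rw [map_pow, h1, map_one, hk.neg_one_pow] at this
    exact absurd this (by decide)

/-- Orbit-stabiliser for subgroups of a symmetric group. -/
theorem card_eq_orbit_mul (S : Subgroup (Perm Ω)) (a : Ω) (T : Set Ω)
    (h1 : ∀ g ∈ S, g a ∈ T) (h2 : ∀ c ∈ T, ∃ g ∈ S, g a = c) :
    Nat.card S = T.ncard * Nat.card (S ⊓ MulAction.stabilizer (Perm Ω) a : Subgroup (Perm Ω)) := by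
  have horb : MulAction.orbit S a = T := by
    ext c
    constructor
    · rintro ⟨g, rfl⟩; exact h1 g g.2
    · intro hc
      obtain ⟨g, hg, rfl⟩ := h2 c hc
      exact ⟨⟨g, hg⟩, rfl⟩
  have e : Nat.card (MulAction.stabilizer S a) =
      Nat.card (S ⊓ MulAction.stabilizer (Perm Ω) a : Subgroup (Perm Ω)) := by
    refine Nat.card_congr ⟨fun g => ⟨(g : S), ⟨(g : S).2, g.2⟩⟩, fun g => ⟨⟨g, g.2.1⟩, g.2.2⟩,
      fun _ => rfl, fun _ => rfl⟩
  rw [← (MulAction.stabilizer S a).index_mul_card, MulAction.index_stabilizer, horb, e]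

omit [DecidableEq Ω] in
/-- An element of a finite set of even size fixed by an involution comes with a second one. -/
theorem exists_second_fixed (hev : Even (Fintype.card Ω)) {σ : Perm Ω} (h2 : σ * σ = 1) {a : Ω}
    (ha : σ a = a) : ∃ b, σ b = b ∧ b ≠ a := by
  haveI : Fact (Nat.Prime 2) := ⟨Nat.prime_two⟩
  exact Perm.exists_fixed_point_of_prime' (p := 2) (n := 1) (even_iff_two_dvd.1 hev)
    (by rw [pow_one, pow_two, h2]) ha

end H71.CycReg
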