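import Cfsg.Agent.H71.CycReg.Main

/-!
Consequences of the classification: 3-transitivity, normalisers, classes of involutions.
-/

set_option autoImplicit false
set_option linter.unusedSectionVars false

namespace H71.CycReg

open Equiv

variable {Ω : Type*} [Fintype Ω] [DecidableEq Ω] {G A : Subgroup (Perm Ω)}

theorem Concl.three (hG : Concl G) (h : Hyp G A) {a b c a' b' c' : Ω} (hab : a ≠ b) (hac : a ≠ c)
    (hbc : b ≠ c) (hab' : a' ≠ b') (hac' : a' ≠ c') (hbc' : b' ≠ c') :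
    ∃ g ∈ G, g a = a' ∧ g b = b' ∧ g c = c' := by
  obtain ⟨g, hg, h1, h2⟩ := h.two a b a' b' hab hab'
  let f : Dd G a' b' → {x : Ω // x ≠ a' ∧ x ≠ b'} := fun d => ⟨(d : Perm Ω) (g c),
    fun e => hac (g.injective (h1.trans ((d : Perm Ω).injective (e.trans (mem_Dd.1 d.2).2.1.symm)).symm)),
    fun e => hbc (g.injective (h2.trans ((d : Perm Ω).injective (e.trans (mem_Dd.1 d.2).2.2.symm)).symm))⟩
  have hinj : Function.Injective f := by
    intro d e he
    have he' : (d : Perm Ω) (g c) = (e : Perm Ω) (g c) := congrArg Subtype.val he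
    have hm := mem_Dd.1 (mul_mem (inv_mem e.2) d.2)
    refine Subtype.ext (inv_mul_eq_one.1 (hG.fix3 _ hm.1 a' b' (g c) hab' ?_ ?_ hm.2.1 hm.2.2 ?_)).symm
    · rw [← h1]; exact g.injective.ne hac
    · rw [← h2]; exact g.injective.ne hbc
    · rw [Perm.mul_apply, he', Perm.inv_eq_iff_eq]
  have hbij := (Nat.bijective_iff_injective_and_card f).2 ⟨hinj, by
    rw [hG.card_two a' b' hab', Nat.card_eq_fintype_card, Fintype.card_subtype,
      show (Finset.univ.filter fun x => x ≠ a' ∧ x ≠ b') = ({a', b'} : Finset Ω)ᶜ by ext x; simp,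
      Finset.card_compl, Finset.card_pair hab']⟩
  obtain ⟨d, hd⟩ := hbij.2 ⟨c', hac'.symm, hbc'.symm⟩
  refine ⟨(d : Perm Ω) * g, mul_mem (mem_Dd.1 d.2).1 hg, ?_, ?_, congrArg Subtype.val hd⟩
  · rw [Perm.mul_apply, h1, (mem_Dd.1 d.2).2.1]
  · rw [Perm.mul_apply, h2, (mem_Dd.1 d.2).2.2]

/-- The group is its own normaliser in the symmetric group. -/
theorem Concl.mem_of_normalizes (hG : Concl G) (h : Hyp G A) {π : Perm Ω}
    (hπ : ∀ x ∈ G, π * x * π⁻¹ ∈ G) : π ∈ G := by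
  obtain ⟨a⟩ : Nonempty Ω := Fintype.card_pos_iff.1 (by have := h.four; omega)
  obtain ⟨b, hba, -⟩ := h.exists_third a a
  obtain ⟨c, hca, hcb⟩ := h.exists_third a b
  obtain ⟨x, hx, hxb⟩ := h.Cc_regular hba hca
  obtain ⟨g, hg, g1, g2, g3⟩ := hG.three h (π.injective.ne hba.symm) (π.injective.ne hca.symm)
    (π.injective.ne hcb.symm) hba.symm hca.symm hcb.symm
  set p := g * π with hp
  have hpn : ∀ y ∈ G, p * y * p⁻¹ ∈ G := fun y hy => by
    have := mul_mem (mul_mem hg (hπ y hy)) (inv_mem hg)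
    simpa [hp, mul_assoc] using this
  have hpinv : p⁻¹ a = a := Perm.inv_eq_iff_eq.2 g1.symm
  have hle : (St G a).map (MulAut.conj p).toMonoidHom ≤ St G a := by
    rintro _ ⟨m, hm, rfl⟩
    refine mem_St.2 ⟨hpn m (mem_St.1 hm).1, ?_⟩
    show (p * m * p⁻¹) a = a
    rw [Perm.mul_apply, Perm.mul_apply, hpinv, (mem_St.1 hm).2]
    exact g1
  have hpx : p * x * p⁻¹ ∈ Cc G a := by
    have h1 : (Cc G a).map (MulAut.conj p).toMonoidHom ≤ Cc G a := by
      rw [Cc, Subgroup.map_commutator]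
      exact Subgroup.commutator_mono hle hle
    exact h1 ⟨x, hx, rfl⟩
  have hpxx : p * x * p⁻¹ = x := by
    have h1 : (x⁻¹ * (p * x * p⁻¹)) b = b := by
      have hpb : p⁻¹ b = b := Perm.inv_eq_iff_eq.2 (show b = p b from g2.symm)
      rw [Perm.mul_apply, Perm.mul_apply, Perm.mul_apply, hpb, hxb, Perm.inv_eq_iff_eq]
      exact g3.trans hxb.symm
    exact (inv_mul_eq_one.1 (h.Cc_semireg hba.symm (mul_mem (inv_mem hx) hpx) h1)).symm
  have hp1 : p = 1 := by
    ext d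
    by_cases hd : d = a
    · rw [hd]; exact g1
    obtain ⟨y, hy, rfl⟩ := h.Cc_regular hba hd
    haveI : Fact (Fintype.card Ω - 1).Prime := ⟨hG.prime⟩
    have hx1 : (⟨x, hx⟩ : Cc G a) ≠ 1 := fun e => hcb (by
      rw [← hxb, show x = 1 from congrArg Subtype.val e, Perm.one_apply])
    have := zpowers_eq_top_of_prime_card (h.card_Cc a) hx1
    obtain ⟨n, hn⟩ := Subgroup.mem_zpowers_iff.1 (this ▸ Subgroup.mem_top (⟨y, hy⟩ : Cc G a))
    have hn' : x ^ n = y := by simpa using congrArg Subtype.val hn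
    have hcomm : Commute p x := mul_inv_eq_iff_eq_mul.1 hpxx
    rw [Perm.one_apply, ← hn', ← Perm.mul_apply, (hcomm.zpow_right n).eq, Perm.mul_apply]
    exact congrArg _ g2
  rw [hp] at hp1
  rw [← inv_eq_of_mul_eq_one_right hp1]
  exact inv_mem hg

/-- An involution with a fixed point has exactly two of them. -/
theorem Concl.fix_pair (hG : Concl G) (h : Hyp G A) {s : Perm Ω} (hs : s ∈ G) (hos : orderOf s = 2)
    {c : Ω} (hc : s c = c) : ∃ d, d ≠ c ∧ s d = d ∧ ∀ x, s x = x → x = c ∨ x = d := by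
  obtain ⟨d, hd, hdc⟩ := exists_second_fixed h.even (sq_one_of_order_two hos) hc
  refine ⟨d, hdc, hd, fun x hx => ?_⟩
  by_contra hne
  push Not at hne
  have := hG.fix3 s hs c d x (Ne.symm hdc) (Ne.symm hne.1) (Ne.symm hne.2) hc hd hx
  rw [this, orderOf_one] at hos
  omega

/-- Involutions of the same parity are conjugate. -/
theorem Concl.conj_of_sign (hG : Concl G) (h : Hyp G A) {s t : Perm Ω} (hs : s ∈ G) (ht : t ∈ G)
    (hos : orderOf s = 2) (hot : orderOf t = 2) (hsign : Perm.sign s = Perm.sign t) :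
    ∃ g ∈ G, g * s * g⁻¹ = t := by
  classical
  obtain ⟨k, hk⟩ := h.even
  have hfix : ∀ u ∈ G, orderOf u = 2 → ((∀ c, u c ≠ c) ∧ Perm.sign u = (-1) ^ k) ∨
      ((∃ c d, c ≠ d ∧ u c = c ∧ u d = d) ∧ Perm.sign u = (-1) ^ (k - 1)) := by
    intro u hu hou
    have hsgn := Perm.sign_of_pow_two_eq_one (σ := u) (by rw [pow_two, sq_one_of_order_two hou])
    by_cases hc : ∃ c, u c = c
    · right
      obtain ⟨c, hc⟩ := hc
      obtain ⟨d, hdc, hd, honly⟩ := hG.fix_pair h hu hou hc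
      refine ⟨⟨c, d, hdc.symm, hc, hd⟩, ?_⟩
      have : Fintype.card (Function.fixedPoints u) = 2 := by
        rw [Fintype.card_of_subtype ({c, d} : Finset Ω) (fun x => ?_), Finset.card_pair hdc.symm]
        simp only [Finset.mem_insert, Finset.mem_singleton, Function.mem_fixedPoints, Function.IsFixedPt]
        exact ⟨fun e => e.elim (fun e => e ▸ hc) (fun e => e ▸ hd), honly x⟩
      rw [hsgn, this, hk]
      congr 1
      omega
    · left
      push Not at hc
      refine ⟨hc, ?_⟩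
      have : Fintype.card (Function.fixedPoints u) = 0 := Fintype.card_eq_zero_iff.2 ⟨fun x => hc x x.2⟩
      rw [hsgn, this, hk]
      congr 1
      omega
  have h4 := h.four
  have hne : ((-1 : ℤˣ) ^ k) ≠ (-1) ^ (k - 1) := by
    obtain ⟨j, rfl⟩ : ∃ j, k = j + 1 := ⟨k - 1, by omega⟩
    rw [Nat.add_sub_cancel, pow_succ]
    rcases Int.units_eq_one_or ((-1 : ℤˣ) ^ j) with e | e <;> rw [e] <;> decide
  rcases hfix s hs hos with ⟨hsf, hss⟩ | ⟨⟨c, d, hcd, hc, hd⟩, hss⟩ <;>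
    rcases hfix t ht hot with ⟨htf, hts⟩ | ⟨⟨c', d', hcd', hc', hd'⟩, hts⟩
  · exact hG.fpf_conj s hs t ht hos hot hsf htf
  · exact absurd (hss.symm.trans (hsign.trans hts)) hne
  · exact absurd (hss.symm.trans (hsign.trans hts)).symm hne
  · obtain ⟨g, hg, h1, h2⟩ := h.two c d c' d' hcd hcd'
    refine ⟨g, hg, h.Dd_invol_unique hcd' (mem_Dd.2 ⟨mul_mem (mul_mem hg hs) (inv_mem hg), ?_, ?_⟩)
      (mem_Dd.2 ⟨ht, hc', hd'⟩)
      (by rw [show g * s * g⁻¹ = MulAut.conj g s from rfl, (MulAut.conj g).orderOf_eq, hos]) hot⟩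
    · rw [Perm.mul_apply, Perm.mul_apply, Perm.inv_eq_iff_eq.2 h1.symm, hc, h1]
    · rw [Perm.mul_apply, Perm.mul_apply, Perm.inv_eq_iff_eq.2 h2.symm, hd, h2]

end H71.CycReg
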