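import Cfsg.Agent.H71.CycReg.TwoFix

/-!
An involution fixing two points fixes only two, by induction on the degree; classification.
-/

set_option autoImplicit false
set_option linter.unusedSectionVars false

namespace H71.CycReg

open Equiv

universe u

variable {Ω : Type u} [Fintype Ω] [DecidableEq Ω]

theorem Ctx.commute_of_fix {G A : Subgroup (Perm Ω)} {a : Ω} {τ z : Perm Ω} (hc : Ctx G A a τ z)
    {w : Perm Ω} (hwG : w ∈ G) (how : orderOf w = 2) {c : Ω} (hzc : z c ≠ c) (hwc : w c = c)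
    (hwzc : w (z c) = z c) : w * z = z * w := by
  have hzz : ∀ x, z (z x) = x := fun x => by
    rw [← Perm.mul_apply, sq_one_of_order_two hc.oz, Perm.one_apply]
  have hzinv : z⁻¹ = z := inv_eq_of_mul_eq_one_right (sq_one_of_order_two hc.oz)
  have hm : z * w * z⁻¹ ∈ Dd G c (z c) := by
    refine mem_Dd.2 ⟨mul_mem (mul_mem hc.zG hwG) (inv_mem hc.zG), ?_, ?_⟩
    · rw [hzinv, Perm.mul_apply, Perm.mul_apply, hwzc, hzz]
    · rw [hzinv, Perm.mul_apply, Perm.mul_apply, hzz, hwc]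
  exact (mul_inv_eq_iff_eq_mul.1 (hc.hyp.Dd_invol_unique (Ne.symm hzc) hm (mem_Dd.2 ⟨hwG, hwc, hwzc⟩)
    (by rw [show z * w * z⁻¹ = MulAut.conj z w from rfl, (MulAut.conj z).orderOf_eq, how]) how)).symm

theorem false_of_four {G A : Subgroup (Perm Ω)} {a : Ω} {τ z : Perm Ω} (hc : Ctx G A a τ z)
    (h4 : 4 ≤ Fintype.card {c : Ω // z c = c}) (hH : Concl (res G z).range) : False := by
  classical
  have hh := hc.hyp_res h4
  set H := (res G z).range with hHdef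
  set f := Fintype.card {c : Ω // z c = c} with hfdef
  let a' : {c : Ω // z c = c} := ⟨a, hc.za⟩
  let b' : {c : Ω // z c = c} := ⟨τ a, hc.zb⟩
  have hab' : a' ≠ b' := fun e => hc.hab (congrArg Subtype.val e)
  have hρker : ∀ g : Nn G z, res G z g = 1 ↔ ∀ c, z c = c → (g : Perm Ω) c = c := fun g =>
    ⟨fun e c hcf => congrArg Subtype.val (Perm.ext_iff.1 e ⟨c, hcf⟩),
      fun e => Perm.ext fun c => Subtype.ext (e c c.2)⟩
  have himg : ∀ d (hd : d ∈ Dd G a (τ a)), res G z ⟨d, hc.Dd_Nn hd⟩ ∈ Dd H a' b' := fun d hd =>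
    mem_Dd.2 ⟨⟨_, rfl⟩, Subtype.ext (mem_Dd.1 hd).2.1, Subtype.ext (mem_Dd.1 hd).2.2⟩
  have hpre : ∀ x ∈ Dd H a' b', ∃ d, ∃ hd : d ∈ Dd G a (τ a), res G z ⟨d, hc.Dd_Nn hd⟩ = x := by
    intro x hx
    obtain ⟨hxH, hxa, hxb⟩ := mem_Dd.1 hx
    obtain ⟨g, rfl⟩ := hxH
    exact ⟨g, mem_Dd.2 ⟨(mem_Nn.1 g.2).1, congrArg Subtype.val hxa, congrArg Subtype.val hxb⟩, rfl⟩
  -- a generator of the two-point stabiliser
  have hcycD := hc.hyp.Dd_cyclic hc.hab
  obtain ⟨⟨δ, hδ⟩, hgen⟩ := hcycD.exists_generator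
  have hgen' : ∀ d ∈ Dd G a (τ a), ∃ i : ℤ, δ ^ i = d := fun d hd => by
    obtain ⟨i, hi⟩ := Subgroup.mem_zpowers_iff.1 (hgen ⟨d, hd⟩)
    exact ⟨i, by simpa using congrArg Subtype.val hi⟩
  set δN : Nn G z := ⟨δ, hc.Dd_Nn hδ⟩ with hδN
  have hδz : Dd H a' b' = Subgroup.zpowers (res G z δN) := by
    refine le_antisymm (fun x hx => ?_) (Subgroup.zpowers_le.2 (himg δ hδ))
    obtain ⟨d, hd, rfl⟩ := hpre x hx
    obtain ⟨i, rfl⟩ := hgen' d hd
    refine Subgroup.mem_zpowers_iff.2 ⟨i, ?_⟩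
    rw [← map_zpow]
    exact congrArg _ (Subtype.ext (SubgroupClass.coe_zpow _ _))
  have hoδ : orderOf (res G z δN) = f - 2 := by
    rw [← Nat.card_zpowers, ← hδz, hH.card_two a' b' hab', hfdef]
  obtain ⟨f', hf'⟩ := hc.card_fix_even
  rw [← hfdef] at hf'
  have hδpow : ∀ i : ℤ, res G z (δN ^ i) = 1 ↔ ((f - 2 : ℕ) : ℤ) ∣ i := fun i => by
    rw [map_zpow, ← orderOf_dvd_iff_zpow_eq_one, hoδ]
  have hDN : ∀ d (hd : d ∈ Dd G a (τ a)) (i : ℤ), δ ^ i = d → (⟨d, hc.Dd_Nn hd⟩ : Nn G z) = δN ^ i :=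
    fun d hd i hi => Subtype.ext (by rw [SubgroupClass.coe_zpow]; exact hi.symm)
  -- the kernel
  let Ks : Set (Perm Ω) := {k | k ∈ Nn G z ∧ ∀ c, z c = c → k c = c}
  have hKD : ∀ k ∈ Ks, k ∈ Dd G a (τ a) := fun k hk =>
    mem_Dd.2 ⟨(mem_Nn.1 hk.1).1, hk.2 a hc.za, hk.2 _ hc.zb⟩
  obtain ⟨e, hea, heb⟩ := hh.exists_third a' b'
  have heE : (e : Ω) ≠ a ∧ (e : Ω) ≠ τ a := ⟨fun h => hea (Subtype.ext h), fun h => heb (Subtype.ext h)⟩
  have hstabN : ∀ m ∈ St G a ⊓ Nn G z, ∃ x ∈ Cc G a, x ∈ Nn G z ∧ x⁻¹ * m ∈ Dd G a (τ a) := by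
    intro m hm
    obtain ⟨hmS, hmN⟩ := Subgroup.mem_inf.1 hm
    obtain ⟨x, hx, hd⟩ := hc.hyp.St_decomp hc.hab hmS
    refine ⟨x, hx, hc.Cc_comm_of_fix hx ?_, hd⟩
    have : x (τ a) = m (τ a) := by
      have h1 := (mem_Dd.1 hd).2.2
      rw [Perm.mul_apply, Perm.inv_eq_iff_eq] at h1
      exact h1.symm
    rw [this]
    exact (Nn_fix hmN _).2 hc.zb
  have hKconj : ∀ g ∈ Nn G z, ∀ k ∈ Ks, g * k * g⁻¹ ∈ Ks := by
    intro g hg k hk
    refine ⟨mul_mem (mul_mem hg hk.1) (inv_mem hg), fun c hcf => ?_⟩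
    rw [Perm.mul_apply, Perm.mul_apply, hk.2 _ ((Nn_fix (inv_mem hg) c).2 hcf), ← Perm.mul_apply,
      mul_inv_cancel, Perm.one_apply]
  have hKcent : ∀ g ∈ Nn G z, ∀ k ∈ Ks, g * k = k * g := by
    have hle := hc.Nn_le_of_normal (Y := Nn G z ⊓ Subgroup.centralizer Ks) ?_ ?_ heE.1 heE.2 e.2
    · intro g hg k hk
      exact (Subgroup.mem_centralizer_iff.1 (hle hg).2 k hk).symm
    · intro g hg y hy
      refine Subgroup.mem_inf.2 ⟨mul_mem (mul_mem hg hy.1) (inv_mem hg), Subgroup.mem_centralizer_iff.2 fun k hk => ?_⟩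
      have hk' := hKconj g⁻¹ (inv_mem hg) k hk
      rw [inv_inv] at hk'
      have h1 := Subgroup.mem_centralizer_iff.1 hy.2 _ hk'
      calc k * (g * y * g⁻¹) = g * ((g⁻¹ * k * g) * y) * g⁻¹ := by group
        _ = g * (y * (g⁻¹ * k * g)) * g⁻¹ := by rw [h1]
        _ = g * y * g⁻¹ * k := by group
    · intro m hm
      refine Subgroup.mem_inf.2 ⟨hm.2, Subgroup.mem_centralizer_iff.2 fun k hk => ?_⟩
      obtain ⟨x, hx, hxN, hd⟩ := hstabN m hm
      have h1 : k * (x⁻¹ * m) = x⁻¹ * m * k := hc.hyp.Dd_comm hc.hab (hKD k hk) hd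
      have h2 : x * k * x⁻¹ * k⁻¹ = 1 := by
        refine hc.hyp.Cc_semireg hc.hab (hc.hyp.comm_mem_Cc (hc.hyp.Cc_le a hx) (Dd_le_left G a _ (hKD k hk))) ?_
        have hk' := hKconj x hxN k hk
        have h3 : k⁻¹ (τ a) = τ a := Perm.inv_eq_iff_eq.2 (hk.2 _ hc.zb).symm
        rw [Perm.mul_apply, h3, hk'.2 _ hc.zb]
      have h2' : x * k = k * x := mul_inv_eq_iff_eq_mul.1 (mul_inv_eq_one.1 h2)
      calc k * m = (k * x) * (x⁻¹ * m) := by group
        _ = x * (k * (x⁻¹ * m)) := by rw [← h2', mul_assoc]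
        _ = x * (x⁻¹ * m * k) := by rw [h1]
        _ = m * k := by group
  have hzK : z ∈ Ks := ⟨hc.Dd_Nn hc.zD, fun c hcf => hcf⟩
  have hKinv : ∀ k ∈ Ks, k * k = 1 → k = 1 ∨ k = z := fun k hk h2 => by
    by_cases h1 : k = 1
    · exact Or.inl h1
    · exact Or.inr (hc.hyp.Dd_invol_unique hc.hab (hKD k hk) hc.zD (order_two_of_sq h2 h1) hc.oz)
  -- signs agree
  have hzpow_sign : ∀ {M : Type u} [Fintype M] [DecidableEq M] (x : Perm M) (i : ℤ),
      Perm.sign x = 1 → Perm.sign (x ^ i) = 1 := fun x i hx => by rw [map_zpow, hx, one_zpow]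
  have hsδ : Perm.sign δ = -1 := by
    obtain ⟨d, hd, hs⟩ := hc.hyp.exists_odd hc.hab
    obtain ⟨i, rfl⟩ := hgen' d hd
    rcases Int.units_eq_one_or (Perm.sign δ) with h | h
    · rw [hzpow_sign δ i h] at hs; exact absurd hs (by decide)
    · exact h
  have hsδ' : Perm.sign (res G z δN) = -1 := by
    obtain ⟨d, hd, hs⟩ := hh.exists_odd hab'
    rw [hδz] at hd
    obtain ⟨i, rfl⟩ := Subgroup.mem_zpowers_iff.1 hd
    rcases Int.units_eq_one_or (Perm.sign (res G z δN)) with h | h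
    · rw [hzpow_sign _ i h] at hs; exact absurd hs (by decide)
    · exact h
  let s1 : Nn G z →* ℤˣ := Perm.sign.comp (Nn G z).subtype
  let s2 : Nn G z →* ℤˣ := Perm.sign.comp (res G z)
  have hsign : ∀ g : Nn G z, s1 g = s2 g := by
    have hle := hc.Nn_le_of_normal (Y := (MonoidHom.eqLocus s1 s2).map (Nn G z).subtype) ?_ ?_ heE.1 heE.2 e.2
    · intro g
      obtain ⟨g', hg', he⟩ := hle g.2
      rwa [Subgroup.subtype_injective _ he] at hg'
    · rintro g hg y ⟨y', hy', rfl⟩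
      refine ⟨⟨g, hg⟩ * y' * ⟨g, hg⟩⁻¹, ?_, rfl⟩
      have hy'' : s1 y' = s2 y' := hy'
      show s1 _ = s2 _
      simp only [map_mul, map_inv, hy'']
      rw [mul_comm (s1 _) (s2 y'), mul_comm (s2 ⟨g, hg⟩) (s2 y'), mul_inv_cancel_right, mul_inv_cancel_right]
    · intro m hm
      obtain ⟨x, hx, hxN, hd⟩ := hstabN m hm
      obtain ⟨i, hi⟩ := hgen' _ hd
      refine ⟨⟨x, hxN⟩ * δN ^ i, ?_, ?_⟩
      · show s1 _ = s2 _
        simp only [map_mul, map_zpow]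
        have hx1 : s1 ⟨x, hxN⟩ = 1 := hc.hyp.sign_Cc hx
        have hx2 : s2 ⟨x, hxN⟩ = 1 := by
          refine sign_eq_one_of_pow hc.hyp.odd_sub_one ?_
          rw [← map_pow, ← map_one (res G z)]
          congr 1
          apply Subtype.ext
          rw [SubmonoidClass.coe_pow, ← hc.hyp.card_Cc a]
          exact orderOf_dvd_iff_pow_eq_one.1 (Subgroup.orderOf_dvd_natCard _ hx)
        rw [hx1, hx2, show s1 δN = -1 from hsδ, show s2 δN = -1 from hsδ']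
      · show x * ((δN ^ i : Nn G z) : Perm Ω) = m
        rw [SubgroupClass.coe_zpow, show ((δN : Nn G z) : Perm Ω) = δ from rfl, hi]
        group
  -- `n / f` is odd
  have hcardAN : Nat.card (A ⊓ Nn G z : Subgroup (Perm Ω)) = f := by
    rw [hfdef, ← Nat.card_eq_fintype_card]
    refine Nat.card_eq_of_bijective (fun α => (⟨(α : Perm Ω) a, (Nn_fix α.2.2 a).2 hc.za⟩ :
      {c : Ω // z c = c})) ⟨fun α β e => ?_, fun c => ?_⟩
    · have e' : (α : Perm Ω) a = (β : Perm Ω) a := congrArg Subtype.val e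
      have e2 := (hc.hyp.reg a ((β : Perm Ω) a)).unique
        (y₁ := ⟨α, α.2.1⟩) (y₂ := ⟨β, β.2.1⟩) e' rfl
      exact Subtype.ext (Subtype.mk.inj e2)
    · obtain ⟨α, hα, hαz, hαc⟩ := (hc.fix_iff (c : Ω)).1 c.2
      exact ⟨⟨α, Subgroup.mem_inf.2 ⟨hα, mem_Nn.2 ⟨hc.hyp.le hα, hαz⟩⟩⟩, Subtype.ext hαc⟩
  obtain ⟨σ, hσA, hσz, hσo, hσs⟩ := hc.hyp.exists_gen
  obtain ⟨j, hj⟩ : f ∣ Fintype.card Ω := by
    rw [← hcardAN, ← hc.hyp.card_A]
    exact Subgroup.card_dvd_of_le inf_le_left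
  have hαz : Subgroup.zpowers (σ ^ j) = A ⊓ Nn G z := by
    refine eq_of_le_cyclic hc.hyp.cyc (Subgroup.zpowers_le.2 (pow_mem hσA j)) inf_le_left ?_
    have hj0 : j ≠ 0 := fun e => by rw [e, mul_zero] at hj; have := hc.hyp.four; omega
    rw [Nat.card_zpowers, hcardAN, orderOf_pow' _ hj0, hσo, hj, Nat.gcd_eq_right ⟨f, mul_comm _ _⟩,
      Nat.mul_div_cancel _ (Nat.pos_of_ne_zero hj0)]
  have hαN : σ ^ j ∈ Nn G z := (hαz.le (Subgroup.mem_zpowers _)).2
  have hsα : Perm.sign (res G z ⟨σ ^ j, hαN⟩) = -1 := by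
    obtain ⟨σ', hσ', -, -, hs'⟩ := hh.exists_gen
    obtain ⟨β, hβ, rfl⟩ := hσ'
    obtain ⟨i, hi⟩ := Subgroup.mem_zpowers_iff.1
      (hαz.ge (Subgroup.mem_inf.2 ⟨hβ, β.2⟩ : (β : Perm Ω) ∈ A ⊓ Nn G z))
    have hβ' : β = (⟨σ ^ j, hαN⟩ : Nn G z) ^ i := Subtype.ext (by rw [SubgroupClass.coe_zpow]; exact hi.symm)
    rw [hβ', map_zpow] at hs'
    rcases Int.units_eq_one_or (Perm.sign (res G z ⟨σ ^ j, hαN⟩)) with h | h
    · rw [hzpow_sign _ i h] at hs'; exact absurd hs' (by decide)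
    · exact h
  have hjodd : Odd j := by
    by_contra hev
    have := hsign ⟨σ ^ j, hαN⟩
    change Perm.sign (σ ^ j) = Perm.sign (res G z ⟨σ ^ j, hαN⟩) at this
    rw [map_pow, hσs, (Nat.not_odd_iff_even.1 hev).neg_one_pow, hsα] at this
    exact absurd this (by decide)
  -- the conjugates of `z` centralising it
  let W : Finset (Perm Ω) := Finset.univ.filter fun w =>
    (∃ g ∈ G, g * z * g⁻¹ = w) ∧ w * z = z * w ∧ w ≠ z
  let Fx : Perm Ω → Finset Ω := fun w => Finset.univ.filter fun x => w x = x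
  have hWord : ∀ w ∈ W, w ∈ G ∧ orderOf w = 2 ∧ (Fx w).card = f := by
    intro w hw
    obtain ⟨⟨g, hg, rfl⟩, -, -⟩ := (Finset.mem_filter.1 hw).2
    refine ⟨mul_mem (mul_mem hg hc.zG) (inv_mem hg), by
      rw [show g * z * g⁻¹ = MulAut.conj g z from rfl, (MulAut.conj g).orderOf_eq, hc.oz], ?_⟩
    rw [hfdef, Fintype.card_subtype]
    exact (Finset.card_equiv g fun i => by rw [Finset.mem_filter, Finset.mem_filter]; simp).symm
  have hWfix : ∀ w ∈ W, ∀ c, z c = c → w c ≠ c := by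
    intro w hw c hcf hwc
    obtain ⟨hwG, how, -⟩ := hWord w hw
    obtain ⟨-, hwz, hne⟩ := (Finset.mem_filter.1 hw).2
    have hwN : w ∈ Nn G z := mem_Nn.2 ⟨hwG, hwz⟩
    obtain ⟨d, hd, hdc⟩ := exists_second_fixed (σ := res G z ⟨w, hwN⟩) hc.card_fix_even (by
      rw [← map_mul, ← map_one (res G z)]
      exact congrArg _ (Subtype.ext (sq_one_of_order_two how))) (a := ⟨c, hcf⟩) (Subtype.ext hwc)
    exact hne (hc.invol_eq (fun h => hdc (Subtype.ext h)) hwG how (congrArg Subtype.val hd) hwc d.2 hcf)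
  have hcount : Fintype.card Ω = f + W.card * f := by
    have hdisj : (W : Set (Perm Ω)).PairwiseDisjoint Fx := by
      intro w hw w' hw' hne
      rw [Function.onFun, Finset.disjoint_left]
      intro c h1 h2
      simp only [Fx, Finset.mem_filter, Finset.mem_univ, true_and] at h1 h2
      obtain ⟨hwG, how, -⟩ := hWord w hw
      obtain ⟨hwG', how', -⟩ := hWord w' hw'
      have hzc : z c ≠ c := fun e => hWfix w hw c e h1
      have fixz : ∀ v : Perm Ω, v * z = z * v → v c = c → v (z c) = z c := fun v hv hvc => by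
        rw [← Perm.mul_apply, hv, Perm.mul_apply, hvc]
      exact hne (hc.hyp.Dd_invol_unique (Ne.symm hzc)
        (mem_Dd.2 ⟨hwG, h1, fixz w (Finset.mem_filter.1 hw).2.2.1 h1⟩)
        (mem_Dd.2 ⟨hwG', h2, fixz w' (Finset.mem_filter.1 hw').2.2.1 h2⟩) how how')
    have hcover : W.biUnion Fx = (Fx z)ᶜ := by
      ext c
      simp only [Finset.mem_biUnion, Finset.mem_compl, Fx, Finset.mem_filter, Finset.mem_univ, true_and]
      constructor
      · rintro ⟨w, hw, hwc⟩ hzc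
        exact hWfix w hw c hzc hwc
      · intro hzc
        obtain ⟨g, hg, hga, hgb⟩ := hc.hyp.two a (τ a) c (z c) hc.hab (Ne.symm hzc)
        have hwG : g * z * g⁻¹ ∈ G := mul_mem (mul_mem hg hc.zG) (inv_mem hg)
        have how : orderOf (g * z * g⁻¹) = 2 := by
          rw [show g * z * g⁻¹ = MulAut.conj g z from rfl, (MulAut.conj g).orderOf_eq, hc.oz]
        have hwc : (g * z * g⁻¹) c = c := by
          rw [Perm.mul_apply, Perm.mul_apply, Perm.inv_eq_iff_eq.2 hga.symm, hc.za, hga]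
        have hwzc : (g * z * g⁻¹) (z c) = z c := by
          rw [Perm.mul_apply, Perm.mul_apply, Perm.inv_eq_iff_eq.2 hgb.symm, hc.zb, hgb]
        refine ⟨g * z * g⁻¹, Finset.mem_filter.2 ⟨Finset.mem_univ _, ⟨g, hg, rfl⟩,
          hc.commute_of_fix hwG how hzc hwc hwzc, fun e => hzc (by rwa [e] at hwc)⟩, hwc⟩
    have h1 := Finset.card_biUnion hdisj
    rw [hcover, Finset.card_compl, Finset.sum_congr rfl (fun w hw => (hWord w hw).2.2),
      Finset.sum_const, smul_eq_mul] at h1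
    have h2 : (Fx z).card = f := by rw [hfdef, Fintype.card_subtype]
    have h3 : f < Fintype.card Ω := hc.card_fix_lt
    omega
  have hWeven : Even W.card := by
    have : j = 1 + W.card := Nat.eq_of_mul_eq_mul_left (show 0 < f by omega) (by
      rw [← hj, hcount]; ring)
    obtain ⟨k, hk⟩ := hjodd
    exact ⟨k, by omega⟩
  have hWne : W.Nonempty := by
    rw [Finset.nonempty_iff_ne_empty]
    intro e
    have := hc.card_fix_lt
    rw [e, Finset.card_empty, zero_mul, add_zero] at hcount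
    omega
  -- every one is conjugate to `τ z`
  have hτρ : ∀ c, (res G z ⟨τ, hc.tau_Nn⟩) c ≠ c := fun c h => hc.tau_ne c (congrArg Subtype.val h)
  have hτo : orderOf (res G z ⟨τ, hc.tau_Nn⟩) = 2 := order_two_of_sq (by
      rw [← map_mul, ← map_one (res G z)]
      exact congrArg _ (Subtype.ext (sq_one_of_order_two hc.otau)))
    (fun h => hτρ a' (by rw [h, Perm.one_apply]))
  have hWconj : ∀ w ∈ W, ∃ g ∈ Nn G z, g * w * g⁻¹ = τ * z := by
    intro w hw
    obtain ⟨hwG, how, -⟩ := hWord w hw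
    obtain ⟨⟨g0, hg0, hg0w⟩, hwz, -⟩ := (Finset.mem_filter.1 hw).2
    have hwN : w ∈ Nn G z := mem_Nn.2 ⟨hwG, hwz⟩
    have hwρ : ∀ c, (res G z ⟨w, hwN⟩) c ≠ c := fun c h =>
      hWfix w hw c c.2 (congrArg Subtype.val h)
    obtain ⟨x, ⟨g, rfl⟩, hg⟩ := hH.fpf_conj _ ⟨⟨w, hwN⟩, rfl⟩ _ ⟨⟨τ, hc.tau_Nn⟩, rfl⟩
      (order_two_of_sq (by
        rw [← map_mul, ← map_one (res G z)]
        exact congrArg _ (Subtype.ext (sq_one_of_order_two how)))
        (fun h => hwρ a' (by rw [h, Perm.one_apply]))) hτo hwρ hτρ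
    have hk : τ⁻¹ * ((g : Perm Ω) * w * (g : Perm Ω)⁻¹) ∈ Ks := by
      refine ⟨mul_mem (inv_mem hc.tau_Nn) (mul_mem (mul_mem g.2 hwN) (inv_mem g.2)), ?_⟩
      refine (hρker ((⟨τ, hc.tau_Nn⟩ : Nn G z)⁻¹ * (g * ⟨w, hwN⟩ * g⁻¹))).1 ?_
      rw [map_mul, map_inv, map_mul, map_mul, map_inv, hg, inv_mul_cancel]
    set k := τ⁻¹ * ((g : Perm Ω) * w * (g : Perm Ω)⁻¹) with hkdef
    have hgw : (g : Perm Ω) * w * (g : Perm Ω)⁻¹ = τ * k := by rw [hkdef]; group
    have hk2 : k * k = 1 := by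
      have h1 : (τ * k) * (τ * k) = 1 := by
        rw [← hgw, conj_mul, sq_one_of_order_two how, mul_one, mul_inv_cancel]
      rw [mul_assoc, ← mul_assoc k τ k, ← hKcent τ hc.tau_Nn k hk, mul_assoc τ k k, ← mul_assoc,
        sq_one_of_order_two hc.otau, one_mul] at h1
      exact h1
    rcases hKinv k hk hk2 with h | h
    · exfalso
      rw [h, mul_one] at hgw
      apply hc.tau_ne (((g : Perm Ω) * g0) a)
      rw [← hgw, ← hg0w]
      simp [hc.za]
    · exact ⟨g, g.2, by rw [hgw, h]⟩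
  have hW_inv : ∀ g ∈ Nn G z, ∀ w ∈ W, g * w * g⁻¹ ∈ W := by
    intro g hg w hw
    obtain ⟨⟨g0, hg0, rfl⟩, hwz, hne⟩ := (Finset.mem_filter.1 hw).2
    have hgz : g * z * g⁻¹ = z := by rw [(mem_Nn.1 hg).2, mul_inv_cancel_right]
    refine Finset.mem_filter.2 ⟨Finset.mem_univ _, ⟨g * g0, mul_mem (mem_Nn.1 hg).1 hg0, by group⟩, ?_, ?_⟩
    · calc g * (g0 * z * g0⁻¹) * g⁻¹ * z = g * (g0 * z * g0⁻¹) * g⁻¹ * (g * z * g⁻¹) := by rw [hgz]
        _ = g * ((g0 * z * g0⁻¹) * z) * g⁻¹ := by group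
        _ = g * (z * (g0 * z * g0⁻¹)) * g⁻¹ := by rw [hwz]
        _ = (g * z * g⁻¹) * (g * (g0 * z * g0⁻¹) * g⁻¹) := by group
        _ = z * (g * (g0 * z * g0⁻¹) * g⁻¹) := by rw [hgz]
    · intro h
      exact hne ((MulAut.conj g).injective (h.trans hgz.symm))
  have hτzW : τ * z ∈ W := by
    obtain ⟨w, hw⟩ := hWne
    obtain ⟨g, hg, hgw⟩ := hWconj w hw
    exact hgw ▸ hW_inv g hg w hw
  have hτzfix : ∃ c, (τ * z) c = c := by
    obtain ⟨⟨g0, hg0, hg⟩, -, -⟩ := (Finset.mem_filter.1 hτzW).2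
    exact ⟨g0 a, by rw [← hg]; simp [hc.za]⟩
  -- elements inverted mod the kernel and equal to their inverse mod the kernel commute with `τ`
  have hinvρ : ∀ d (hd : d ∈ Dd G a (τ a)), τ * d * τ⁻¹ * d ∈ Ks := by
    intro d hd
    have h1 := hH.inv_swap a' b' hab' _ ⟨⟨τ, hc.tau_Nn⟩, rfl⟩ (Subtype.ext rfl)
      (Subtype.ext (hc.tau_tau a)) _ (himg d hd)
    refine ⟨mul_mem (mul_mem (mul_mem hc.tau_Nn (hc.Dd_Nn hd)) (inv_mem hc.tau_Nn)) (hc.Dd_Nn hd), ?_⟩
    refine (hρker ((⟨τ, hc.tau_Nn⟩ : Nn G z) * ⟨d, hc.Dd_Nn hd⟩ * (⟨τ, hc.tau_Nn⟩ : Nn G z)⁻¹ * ⟨d, hc.Dd_Nn hd⟩)).1 ?_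
    rw [map_mul, map_mul, map_mul, map_inv, h1, inv_mul_cancel]
  have hcomm : ∀ x ∈ Dd G a (τ a), x * x ∈ Ks → τ * x = x * τ := by
    intro x hx hx2
    set v := τ * x * τ⁻¹ * x⁻¹ with hv
    have hKmul : ∀ k l, k ∈ Ks → l ∈ Ks → k * l⁻¹ ∈ Ks := fun k l hk hl =>
      ⟨mul_mem hk.1 (inv_mem hl.1), fun c hcf => by
        rw [Perm.mul_apply, Perm.inv_eq_iff_eq.2 (hl.2 c hcf).symm, hk.2 c hcf]⟩
    have hvK : v ∈ Ks := by
      have h1 := hKmul _ _ (hinvρ x hx) hx2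
      rwa [show τ * x * τ⁻¹ * x * (x * x)⁻¹ = v by rw [hv]; group] at h1
    have h1 : τ * v * τ⁻¹ = v := by rw [hKcent τ hc.tau_Nn v hvK, mul_inv_cancel_right]
    have h2 : v * v = 1 := by
      have e1 : τ * x * τ⁻¹ = v * x := by rw [hv]; group
      have hττ : τ⁻¹ = τ := hc.tau_inv
      have e2 : x = τ * (τ * x * τ⁻¹) * τ⁻¹ := by
        rw [hττ, ← mul_assoc, ← mul_assoc, sq_one_of_order_two hc.otau, one_mul, mul_assoc,
          sq_one_of_order_two hc.otau, mul_one]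
      rw [e1] at e2
      have e3 : τ * (v * x) * τ⁻¹ = v * (v * x) := by
        calc τ * (v * x) * τ⁻¹ = (τ * v * τ⁻¹) * (τ * x * τ⁻¹) := by group
          _ = v * (v * x) := by rw [h1, e1]
      rw [e3, ← mul_assoc] at e2
      exact mul_eq_right.1 e2.symm
    rcases hKinv v hvK h2 with h | h
    · have : τ * x * τ⁻¹ = x := mul_inv_eq_one.1 h
      exact mul_inv_eq_iff_eq_mul.1 this
    · exfalso
      have e1 : τ * x * τ⁻¹ = z * x := by rw [← h, hv]; group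
      have hzx : z * x = x * z := hc.hyp.Dd_comm hc.hab hc.zD hx
      have e2 : x⁻¹ * τ * x = τ * z := by
        have e3 : τ * x = z * x * τ := mul_inv_eq_iff_eq_mul.1 e1
        calc x⁻¹ * τ * x = x⁻¹ * (τ * x) := by group
          _ = x⁻¹ * (x * z * τ) := by rw [e3, hzx]
          _ = z * τ := by group
          _ = τ * z := hc.z_tau.symm
      obtain ⟨c, hcfix⟩ := hτzfix
      rw [← e2, Perm.mul_apply, Perm.mul_apply, Perm.inv_eq_iff_eq] at hcfix
      exact hc.tau_ne _ hcfix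
  obtain ⟨m, hm⟩ : ∃ m, f - 2 = 2 * m := ⟨f' - 1, by omega⟩
  have hδi : ∀ i : ℤ, δ ^ i ∈ Ks ↔ ((f - 2 : ℕ) : ℤ) ∣ i := by
    intro i
    rw [← hδpow i, hρker]
    constructor
    · intro h c hcf
      rw [SubgroupClass.coe_zpow]
      exact h.2 c hcf
    · intro h
      refine ⟨zpow_mem (hc.Dd_Nn hδ) i, fun c hcf => ?_⟩
      have := h c hcf
      rwa [SubgroupClass.coe_zpow] at this
  rcases Nat.even_or_odd m with ⟨u, hu⟩ | hmodd
  · set x := δ ^ ((u : ℤ)) with hx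
    have hxD : x ∈ Dd G a (τ a) := zpow_mem hδ _
    have hx2 : x * x ∈ Dd G a (τ a) := mul_mem hxD hxD
    have hxx : (x * x) * (x * x) ∈ Ks := by
      rw [hx, ← zpow_add, ← zpow_add, hδi]
      exact ⟨1, by omega⟩
    have hnK : ¬ x * x ∈ Ks := by
      rw [hx, ← zpow_add, hδi]
      intro hd
      have hu0 : 0 < u := by omega
      have := Int.le_of_dvd (by omega) hd
      omega
    have hc2 := hcomm _ hx2 hxx
    set c := τ * x * τ⁻¹ * x⁻¹ with hcdef
    have hcD : c ∈ Dd G a (τ a) := mul_mem (hc.tau_mem_Dd hxD) (inv_mem hxD)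
    have hcsq : c * c = 1 := by
      have h1 : τ * (x * x) * τ⁻¹ = x * x := by rw [hc2, mul_inv_cancel_right]
      have hcx : x⁻¹ * (τ * x * τ⁻¹) = (τ * x * τ⁻¹) * x⁻¹ :=
        hc.hyp.Dd_comm hc.hab (inv_mem hxD) (hc.tau_mem_Dd hxD)
      calc c * c = (τ * x * τ⁻¹) * (x⁻¹ * (τ * x * τ⁻¹)) * x⁻¹ := by rw [hcdef]; group
        _ = (τ * (x * x) * τ⁻¹) * (x * x)⁻¹ := by rw [hcx]; group
        _ = 1 := by rw [h1, mul_inv_cancel]
    have hcK : c ∈ Ks := by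
      by_cases h1 : c = 1
      · rw [h1]; exact ⟨one_mem _, fun _ _ => rfl⟩
      · rw [hc.hyp.Dd_invol_unique hc.hab hcD hc.zD (order_two_of_sq hcsq h1) hc.oz]; exact hzK
    apply hnK
    have h2 := hinvρ x hxD
    have h3 : x * x = c⁻¹ * (τ * x * τ⁻¹ * x) := by rw [hcdef]; group
    rw [h3]
    refine ⟨mul_mem (inv_mem hcK.1) h2.1, fun p hp => ?_⟩
    rw [Perm.mul_apply, h2.2 p hp, Perm.inv_eq_iff_eq, hcK.2 p hp]
  · -- `|W|` is odd
    let CN : Subgroup (Perm Ω) := Nn G z ⊓ Subgroup.centralizer {τ * z}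
    have hmem : ∀ g, g ∈ CN ↔ g ∈ Nn G z ∧ g * τ = τ * g := by
      intro g
      rw [Subgroup.mem_inf, Subgroup.mem_centralizer_singleton_iff]
      constructor <;> rintro ⟨hg, h⟩ <;> refine ⟨hg, ?_⟩
      · calc g * τ = g * (τ * z) * z⁻¹ := by group
          _ = τ * z * g * z⁻¹ := by rw [← h]
          _ = τ * (z * g) * z⁻¹ := by group
          _ = τ * g := by rw [← (mem_Nn.1 hg).2]; group
      · rw [mul_assoc τ z, ← (mem_Nn.1 hg).2, ← mul_assoc τ, ← h, mul_assoc]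
    have hstab : CN ⊓ MulAction.stabilizer (Perm Ω) a = Subgroup.zpowers (δ ^ m) := by
      refine le_antisymm (fun d hd => ?_) (Subgroup.zpowers_le.2 ?_)
      · obtain ⟨hdC, hda⟩ := Subgroup.mem_inf.1 hd
        obtain ⟨hdN, hdτ⟩ := (hmem d).1 hdC
        have hdD : d ∈ Dd G a (τ a) := mem_Dd.2 ⟨(mem_Nn.1 hdN).1, hda,
          by rw [← Perm.mul_apply, hdτ, Perm.mul_apply]; exact congrArg τ hda⟩
        obtain ⟨i, rfl⟩ := hgen' d hdD
        have h2 := hinvρ _ hdD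
        rw [← hdτ, mul_inv_cancel_right, ← zpow_add, hδi] at h2
        obtain ⟨k, hk⟩ := h2
        rw [hm] at hk
        push_cast at hk
        have hi : i = (m : ℤ) * k := by linarith
        refine Subgroup.mem_zpowers_iff.2 ⟨k, ?_⟩
        rw [hi, zpow_mul, zpow_natCast]
      · have hmD : δ ^ m ∈ Dd G a (τ a) := pow_mem hδ m
        refine Subgroup.mem_inf.2 ⟨(hmem _).2 ⟨hc.Dd_Nn hmD, (hcomm _ hmD ?_).symm⟩, (mem_Dd.1 hmD).2.1⟩
        rw [← pow_add, ← zpow_natCast, hδi]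
        exact ⟨1, by omega⟩
    have hcC : Nat.card CN = f * Nat.card (Subgroup.zpowers (δ ^ m)) := by
      rw [card_eq_orbit_mul CN a {c | z c = c} (fun g hg => (Nn_fix ((hmem g).1 hg).1 a).2 hc.za) ?_, hstab]
      · congr 1
        rw [hfdef, ← Nat.card_eq_fintype_card]; rfl
      · intro c hcf
        obtain ⟨α, hα, hαz, hαc⟩ := (hc.fix_iff c).1 hcf
        exact ⟨α, (hmem α).2 ⟨mem_Nn.2 ⟨hc.hyp.le hα, hαz⟩, hc.hyp.comm_A hα hc.tauA⟩, hαc⟩
    have hcS : Nat.card (St G a ⊓ Nn G z : Subgroup (Perm Ω)) = (f - 1) * Nat.card (Dd G a (τ a)) := by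
      rw [card_eq_orbit_mul _ (τ a) {c | z c = c ∧ c ≠ a} ?_ ?_]
      · congr 1
        · rw [show {c : Ω | z c = c ∧ c ≠ a} = {c | z c = c} \ {a} by ext; simp, Set.ncard_sdiff_singleton_of_mem (show a ∈ {c | z c = c} from hc.za)]
          congr 1
          rw [hfdef, ← Nat.card_eq_fintype_card]; rfl
        · congr 2
          ext g
          constructor
          · intro hg; exact mem_Dd.2 ⟨hg.1.1.1, hg.1.1.2, hg.2⟩
          · intro hg
            exact Subgroup.mem_inf.2 ⟨Subgroup.mem_inf.2 ⟨Dd_le_left G a _ hg, hc.Dd_Nn hg⟩, (mem_Dd.1 hg).2.2⟩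
      · intro g hg
        exact ⟨(Nn_fix hg.2 _).2 hc.zb, fun h => hc.hab (g.injective (h.trans (mem_St.1 hg.1).2.symm)).symm⟩
      · rintro c ⟨hcf, hca⟩
        obtain ⟨g, hg, hga, hgb⟩ := hc.Nn_two hc.hab (Ne.symm hca) hc.za hc.zb hc.za hcf
        exact ⟨g, Subgroup.mem_inf.2 ⟨mem_St.2 ⟨(mem_Nn.1 hg).1, hga⟩, hg⟩, hgb⟩
    have hcN : Nat.card (Nn G z) = f * ((f - 1) * Nat.card (Dd G a (τ a))) := by
      rw [card_eq_orbit_mul (Nn G z) a {c | z c = c} (fun g hg => (Nn_fix hg a).2 hc.za) ?_, ← hcS]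
      · congr 1
        · rw [hfdef, ← Nat.card_eq_fintype_card]; rfl
        · congr 2
          ext g
          constructor
          · intro hg; exact Subgroup.mem_inf.2 ⟨mem_St.2 ⟨(mem_Nn.1 hg.1).1, hg.2⟩, hg.1⟩
          · intro hg; exact Subgroup.mem_inf.2 ⟨hg.2, (mem_St.1 hg.1).2⟩
      · intro c hcf
        obtain ⟨α, hα, hαz, hαc⟩ := (hc.fix_iff c).1 hcf
        exact ⟨α, mem_Nn.2 ⟨hc.hyp.le hα, hαz⟩, hαc⟩
    have hW : W.card * Nat.card CN = Nat.card (Nn G z) := by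
      letI : MulAction (Nn G z) (Perm Ω) :=
        MulAction.compHom (Perm Ω) ((ConjAct.toConjAct.toMonoidHom).comp (Nn G z).subtype)
      have hsm : ∀ (g : Nn G z) (w : Perm Ω), g • w = (g : Perm Ω) * w * (g : Perm Ω)⁻¹ :=
        fun g w => rfl
      have horb : MulAction.orbit (Nn G z) (τ * z) = (W : Set (Perm Ω)) := by
        ext w
        constructor
        · rintro ⟨g, rfl⟩
          show g • (τ * z) ∈ W
          rw [hsm]
          exact hW_inv g g.2 _ hτzW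
        · intro hw
          obtain ⟨g, hg, hgw⟩ := hWconj w hw
          refine ⟨⟨g, hg⟩⁻¹, ?_⟩
          show (⟨g, hg⟩⁻¹ : Nn G z) • (τ * z) = w
          rw [hsm, ← hgw]; simp [mul_assoc]
      have hst : Nat.card (MulAction.stabilizer (Nn G z) (τ * z)) = Nat.card CN := by
        refine Nat.card_congr ⟨fun g => ⟨(g : Nn G z), Subgroup.mem_inf.2 ⟨g.1.2, ?_⟩⟩,
          fun g => ⟨⟨g, g.2.1⟩, ?_⟩, fun _ => rfl, fun _ => rfl⟩
        · rw [Subgroup.mem_centralizer_singleton_iff]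
          have := g.2
          rw [MulAction.mem_stabilizer_iff, hsm] at this
          exact mul_inv_eq_iff_eq_mul.1 this
        · rw [MulAction.mem_stabilizer_iff, hsm]
          show (g : Perm Ω) * (τ * z) * (g : Perm Ω)⁻¹ = τ * z
          rw [Subgroup.mem_centralizer_singleton_iff.1 g.2.2, mul_inv_cancel_right]
      rw [← (MulAction.stabilizer (Nn G z) (τ * z)).index_mul_card, MulAction.index_stabilizer, horb,
        Set.ncard_coe_finset, hst]
    have hzm : Nat.card (Subgroup.zpowers (δ ^ m)) * m = Nat.card (Dd G a (τ a)) := by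
      have hoD : orderOf δ = Nat.card (Dd G a (τ a)) := by
        rw [← Subgroup.orderOf_mk δ hδ]
        exact orderOf_eq_card_of_forall_mem_zpowers hgen
      have hdvd : m ∣ orderOf δ := by
        have h1 : orderOf (res G z δN) ∣ orderOf δ :=
          (orderOf_map_dvd _ δN).trans (by rw [hδN, Subgroup.orderOf_mk])
        rw [hoδ] at h1
        exact dvd_trans ⟨2, by omega⟩ h1
      rw [Nat.card_zpowers, orderOf_pow' _ (by omega : m ≠ 0), Nat.gcd_eq_right hdvd, ← hoD,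
        Nat.div_mul_cancel hdvd]
    have hkey : W.card = (f - 1) * m := by
      rw [hcC, hcN, ← hzm] at hW
      have hpos : 0 < f * Nat.card (Subgroup.zpowers (δ ^ m)) := Nat.mul_pos (by omega) Nat.card_pos
      apply Nat.eq_of_mul_eq_mul_right hpos
      rw [hW]; ring
    have : Odd W.card := by
      rw [hkey]
      exact (show Odd (f - 1) from ⟨f' - 1, by omega⟩).mul hmodd
    exact Nat.not_even_iff_odd.2 this hWeven

/-- Classification: degree `p + 1`, sharply 3-transitive. -/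
theorem concl : ∀ (n : ℕ) (Ω : Type u) [Fintype Ω] [DecidableEq Ω], Fintype.card Ω = n →
    ∀ (G A : Subgroup (Perm Ω)), Hyp G A → Concl G := by
  intro n
  induction n using Nat.strong_induction_on with
  | _ n ih =>
    intro Ω _ _ hn G A h
    obtain ⟨a⟩ : Nonempty Ω := Fintype.card_pos_iff.1 (by have := h.four; omega)
    obtain ⟨τ, z, hc⟩ := h.exists_ctx a
    by_cases hF : ∀ c, z c = c → c = a ∨ c = τ a
    · exact hc.concl_of_twofix hF
    exfalso
    push Not at hF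
    obtain ⟨c, hzc, hca, hcb⟩ := hF
    have h4 : 4 ≤ Fintype.card {c : Ω // z c = c} := by
      obtain ⟨k, hk⟩ := hc.card_fix_even
      have : ({⟨a, hc.za⟩, ⟨τ a, hc.zb⟩, ⟨c, hzc⟩} : Finset {c : Ω // z c = c}).card = 3 := by
        rw [Finset.card_eq_three]
        exact ⟨_, _, _, fun e => hc.hab (congrArg Subtype.val e),
          fun e => hca (congrArg Subtype.val e).symm, fun e => hcb (congrArg Subtype.val e).symm, rfl⟩
      have := Finset.card_le_univ ({⟨a, hc.za⟩, ⟨τ a, hc.zb⟩, ⟨c, hzc⟩} : Finset {c : Ω // z c = c})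
      omega
    exact false_of_four hc h4
      (ih _ (hn ▸ hc.card_fix_lt) {c : Ω // z c = c} rfl _ _ (hc.hyp_res h4))

end H71.CycReg
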