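import Cfsg.Agent.H71.CycReg.Involutions
import Cfsg.Agent.H16.OddOrder

/-!
Groups which are products of a cyclic group and a Z-group.
-/

set_option autoImplicit false
set_option linter.unusedSectionVars false

namespace H71.CycReg

open Equiv

universe u

/-- A supremum of two solvable subgroups, one normal, is solvable. -/
theorem solvable_sup' {P : Type u} [Group P] (N M : Subgroup P) [N.Normal] (hN : Group.IsSolvable N)
    (hM : Group.IsSolvable M) : Group.IsSolvable (N ⊔ M : Subgroup P) := by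
  haveI := hN
  haveI := hM
  haveI : Group.IsSolvable (M.map (QuotientGroup.mk' N)) :=
    Group.isSolvable_of_surjective ((QuotientGroup.mk' N).subgroupMap_surjective M)
  have hle : ∀ x : (N ⊔ M : Subgroup P), (QuotientGroup.mk' N) x ∈ M.map (QuotientGroup.mk' N) := by
    intro x
    have h1 : (N ⊔ M).map (QuotientGroup.mk' N) = M.map (QuotientGroup.mk' N) := by
      rw [Subgroup.map_sup, QuotientGroup.map_mk'_self, bot_sup_eq]
    exact h1 ▸ Subgroup.mem_map_of_mem _ x.2
  refine Group.isSolvable_of_ker_le_range (Subgroup.inclusion (le_sup_left : N ≤ N ⊔ M))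
    (((QuotientGroup.mk' N).comp (N ⊔ M).subtype).codRestrict _ hle) ?_
  intro x hx
  have : (x : P) ∈ N := (QuotientGroup.eq_one_iff (x : P)).1 (congrArg Subtype.val (MonoidHom.mem_ker.1 hx))
  exact ⟨⟨x, this⟩, Subtype.ext rfl⟩

/-- A normal subgroup inherits a trivial solvable radical. -/
theorem radical_trivial_of_normal {G : Type u} [Group G] [Finite G] (K : Subgroup G) [hK : K.Normal]
    (hR : ∀ N : Subgroup G, N.Normal → Group.IsSolvable N → N = ⊥) :
    ∀ N : Subgroup K, N.Normal → Group.IsSolvable N → N = ⊥ := by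
  intro N hN hNs
  let S : Set (Subgroup K) := {X | X.Normal ∧ Group.IsSolvable X}
  obtain ⟨M, ⟨hMn, hMs⟩, hMmax⟩ : ∃ M ∈ S, ∀ X ∈ S, M ≤ X → M = X := by
    obtain ⟨M, hM, hmax⟩ := Set.Finite.exists_maximalFor id S (Set.toFinite S) ⟨N, hN, hNs⟩
    exact ⟨M, hM, fun X hX hle => le_antisymm hle (hmax hX hle)⟩
  have hbig : ∀ X ∈ S, X ≤ M := by
    rintro X ⟨hXn, hXs⟩
    haveI := hMn
    haveI := hXn
    have := hMmax (M ⊔ X) ⟨inferInstance, solvable_sup' M X hMs hXs⟩ le_sup_left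
    rw [this]; exact le_sup_right
  have hn : (M.map K.subtype).Normal := by
    refine ⟨fun x hx g => ?_⟩
    obtain ⟨y, hy, rfl⟩ := hx
    let φ : MulAut K := MulAut.conjNormal g
    have hX : M.map φ.toMonoidHom ∈ S := ⟨hMn.map _ φ.surjective,
      haveI := hMs; Group.isSolvable_of_surjective (φ.toMonoidHom.subgroupMap_surjective M)⟩
    refine ⟨φ y, hbig _ hX ⟨y, hy, rfl⟩, ?_⟩
    simp [φ, MulAut.conjNormal_apply]
  have hs : Group.IsSolvable (M.map K.subtype) :=
    haveI := hMs; Group.isSolvable_of_surjective (K.subtype.subgroupMap_surjective M)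
  have hb := hR _ hn hs
  rw [Subgroup.map_eq_bot_iff, Subgroup.ker_subtype, le_bot_iff] at hb
  exact le_bot_iff.1 (hb ▸ hbig N ⟨hN, hNs⟩)

variable {G : Type u} [Group G]

/-- The permutation representation on the cosets of a subgroup. -/
noncomputable def cosetHom (M : Subgroup G) : G →* Perm (G ⧸ M) := MulAction.toPermHom G (G ⧸ M)

theorem cosetHom_apply (M : Subgroup G) (g : G) (x : G ⧸ M) : cosetHom M g x = g • x := rfl

theorem cosetHom_eq_one {M : Subgroup G} {g : G} : cosetHom M g = 1 ↔ g ∈ M.normalCore := by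
  rw [Subgroup.normalCore_eq_ker, MonoidHom.mem_ker]
  rfl

theorem inf_le_core {A B M : Subgroup G} (hA : IsCyclic A) (hBM : B ≤ M)
    (hAB : ∀ g : G, ∃ a ∈ A, ∃ b ∈ B, g = a * b) : A ⊓ M ≤ M.normalCore := by
  rintro x ⟨hxA, hxM⟩ g
  haveI := hA
  letI := (IsCyclic.commGroup : CommGroup A)
  obtain ⟨a, ha, b, hb, e⟩ := hAB g⁻¹
  have hg : g = b⁻¹ * a⁻¹ := by rw [← mul_inv_rev, ← e, inv_inv]
  have hc : a⁻¹ * x = x * a⁻¹ :=
    congrArg Subtype.val (mul_comm (⟨a⁻¹, inv_mem ha⟩ : A) ⟨x, hxA⟩)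
  rw [hg, mul_inv_rev, inv_inv, inv_inv, show b⁻¹ * a⁻¹ * x * (a * b) = b⁻¹ * (a⁻¹ * x) * (a * b) by group, hc]
  have : b⁻¹ * (x * a⁻¹) * (a * b) = b⁻¹ * x * b := by group
  rw [this]
  exact mul_mem (mul_mem (inv_mem (hBM hb)) hxM) (hBM hb)

variable [Finite G]

/-- The action on the cosets of a maximal subgroup containing the Z-group factor. -/
theorem coset_classify (A B M : Subgroup G) (hA : IsCyclic A) (hB : IsZGroup B)
    (hAB : ∀ g : G, ∃ a ∈ A, ∃ b ∈ B, g = a * b) (hM : IsCoatom M) (hBM : B ≤ M)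
    [Fintype (G ⧸ M)] [DecidableEq (G ⧸ M)] (hns : ¬ Group.IsSolvable (cosetHom M).range) :
    Hyp (cosetHom M).range (A.map (cosetHom M)) ∧ Concl (cosetHom M).range := by
  set ρ := cosetHom M with hρ
  set H := ρ.range with hH
  let o : G ⧸ M := QuotientGroup.mk 1
  have hmk : ∀ g : G, ρ g o = QuotientGroup.mk g := fun g => by
    show g • (QuotientGroup.mk 1 : G ⧸ M) = _
    rw [MulAction.Quotient.smul_mk, smul_eq_mul, mul_one]
  have hAt : ∀ x : G ⧸ M, ∃ a ∈ A, ρ a o = x := by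
    intro x
    induction x using QuotientGroup.induction_on with
    | H g =>
      obtain ⟨a, ha, b, hb, rfl⟩ := hAB g
      refine ⟨a, ha, ?_⟩
      rw [hmk, QuotientGroup.eq]
      simpa using hBM hb
  have hstab : ∀ g : G, ρ g o = o ↔ g ∈ M := fun g => by
    rw [hmk, QuotientGroup.eq, mul_one]
    exact inv_mem_iff
  haveI := hA
  have hAc : ∀ a b, a ∈ A → b ∈ A → a * b = b * a := fun a b ha hb => by
    letI := (IsCyclic.commGroup : CommGroup A)
    exact congrArg Subtype.val (mul_comm (⟨a, ha⟩ : A) ⟨b, hb⟩)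
  have hreg : ∀ x y : G ⧸ M, ∃! α : A.map ρ, (α : Perm (G ⧸ M)) x = y := by
    intro x y
    obtain ⟨a, ha, rfl⟩ := hAt x
    obtain ⟨b, hb, rfl⟩ := hAt y
    refine ⟨⟨ρ (b * a⁻¹), _, mul_mem hb (inv_mem ha), rfl⟩, ?_, ?_⟩
    · show (ρ (b * a⁻¹)) (ρ a o) = ρ b o
      rw [← Perm.mul_apply, ← map_mul, inv_mul_cancel_right]
    · rintro ⟨_, c, hc, rfl⟩ (he : ρ c (ρ a o) = ρ b o)
      apply Subtype.ext
      show ρ c = ρ (b * a⁻¹)
      have h1 : ρ ((b * a⁻¹)⁻¹ * c) = 1 := by
        rw [cosetHom_eq_one]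
        refine inf_le_core hA hBM hAB (Subgroup.mem_inf.2 ⟨mul_mem (inv_mem (mul_mem hb (inv_mem ha))) hc, ?_⟩)
        rw [show (b * a⁻¹)⁻¹ * c = a * b⁻¹ * c by group]
        have h2 : ρ (b⁻¹ * (c * a)) o = o := by
          rw [map_mul, map_mul, Perm.mul_apply, Perm.mul_apply, he, ← Perm.mul_apply, ← map_mul,
            inv_mul_cancel, map_one, Perm.one_apply]
        rw [hstab] at h2
        rwa [mul_assoc, hAc a (b⁻¹ * c) ha (mul_mem (inv_mem hb) hc), mul_assoc]
      rw [map_mul, map_inv, inv_mul_eq_one] at h1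
      exact h1.symm
  have hcyc : IsCyclic (A.map ρ) := isCyclic_of_surjective _ (ρ.subgroupMap_surjective A)
  have hle : A.map ρ ≤ H := Subgroup.map_le_range _ _
  have hZ0 : IsZGroup (St H o) := by
    haveI := hB
    let φ : B →* St H o := (ρ.comp B.subtype).codRestrict _ fun b =>
      mem_St.2 ⟨⟨b, rfl⟩, (hstab b).2 (hBM b.2)⟩
    refine IsZGroup.of_surjective (f := φ) ?_
    rintro ⟨_, ⟨g, rfl⟩, hg⟩
    have hgM : g ∈ M := (hstab g).1 hg
    obtain ⟨a, ha, b, hb, rfl⟩ := hAB g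
    refine ⟨⟨b, hb⟩, Subtype.ext ?_⟩
    have haM : a ∈ M := by simpa using mul_mem hgM (inv_mem (hBM hb))
    show ρ b = ρ (a * b)
    rw [map_mul, cosetHom_eq_one.2 (inf_le_core hA hBM hAB ⟨ha, haM⟩), one_mul]
  have hZ : ∀ x, IsZGroup (St H x) := by
    intro x
    obtain ⟨a, ha, rfl⟩ := hAt x
    haveI := hZ0
    let ψ : St H (ρ a o) →* St H o :=
      ((MulAut.conj (ρ a)⁻¹).toMonoidHom.comp (St H (ρ a o)).subtype).codRestrict _ fun m => by
        refine mem_St.2 ⟨mul_mem (mul_mem (inv_mem ⟨a, rfl⟩) (mem_St.1 m.2).1) (inv_mem (inv_mem ⟨a, rfl⟩)), ?_⟩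
        show ((ρ a)⁻¹ * (m : Perm (G ⧸ M)) * (ρ a)⁻¹⁻¹) o = o
        rw [inv_inv, Perm.mul_apply, Perm.mul_apply, (mem_St.1 m.2).2, ← Perm.mul_apply,
          inv_mul_cancel, Perm.one_apply]
    exact IsZGroup.of_injective (f := ψ) fun m m' e =>
      Subtype.ext ((MulAut.conj (ρ a)⁻¹).injective (congrArg Subtype.val e))
  have hprimG : MulAction.IsPreprimitive G (G ⧸ M) := by
    haveI : Nontrivial (G ⧸ M) := by
      rw [← Finite.one_lt_card_iff_nontrivial]
      exact lt_of_le_of_ne Nat.card_pos fun e => hM.1 (Subgroup.index_eq_one.1 e.symm)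
    rw [← MulAction.isCoatom_stabilizer_iff_preprimitive G (QuotientGroup.mk 1 : G ⧸ M),
      MulAction.stabilizer_quotient]
    exact hM
  have hprim : MulAction.IsPreprimitive H (G ⧸ M) := by
    let f : (G ⧸ M) →ₑ[ρ.rangeRestrict] (G ⧸ M) := { toFun := id, map_smul' := fun g x => rfl }
    exact MulAction.IsPreprimitive.of_surjective (f := f) Function.surjective_id
  have hnp : ∀ K : Subgroup (Perm (G ⧸ M)), Odd (Nat.card K) → Group.IsSolvable K :=
    fun K hK => H16.FT.oddOrder hK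
  have hcH : Nat.card H = Fintype.card (G ⧸ M) * Nat.card (St H o) := by
    rw [card_eq_orbit_mul H o Set.univ (fun _ _ => trivial) (fun c _ => ?_), Set.ncard_univ,
      Nat.card_eq_fintype_card]
    · rfl
    · obtain ⟨a, ha, rfl⟩ := hAt c
      exact ⟨ρ a, ⟨a, rfl⟩, rfl⟩
  have heven : Even (Fintype.card (G ⧸ M)) := by
    by_contra hodd
    rw [Nat.not_even_iff_odd] at hodd
    apply hns
    by_cases hs : Odd (Nat.card (St H o))
    · exact hnp H (hcH ▸ hodd.mul hs)
    haveI : Fact (Nat.Prime 2) := ⟨Nat.prime_two⟩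
    haveI := hZ0
    obtain ⟨R0⟩ : Nonempty (Sylow 2 (St H o)) := inferInstance
    set R : Subgroup (Perm (G ⧸ M)) := (R0 : Subgroup (St H o)).map (St H o).subtype
    have hRH : R ≤ H := (Subgroup.map_subtype_le _).trans (St_le H o)
    have hcR : Nat.card R = Nat.card R0 :=
      (Nat.card_congr (Subgroup.equivMapOfInjective _ _ (St H o).subtype_injective).toEquiv).symm
    have hidx : ¬ 2 ∣ (R.subgroupOf H).index := by
      have h1 := Subgroup.card_mul_index (R.subgroupOf H)
      have h2 := Subgroup.card_mul_index (R0 : Subgroup (St H o))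
      rw [← hcR] at h2
      rw [Nat.card_congr (Subgroup.subgroupOfEquivOfLe hRH).toEquiv, hcH, ← h2, mul_left_comm] at h1
      rw [Nat.eq_of_mul_eq_mul_left Nat.card_pos h1]
      intro hd
      exact (Nat.prime_two.dvd_mul.1 hd).elim (fun h3 => Nat.not_even_iff_odd.2 hodd (even_iff_two_dvd.2 h3))
        R0.not_dvd_index
    obtain ⟨K, hKH, hK2, hKn, hKmem⟩ := exists_complement Nat.prime_two hRH (R0.2.map _) hidx (by
      intro g hg hnorm x hx
      let S : Sylow 2 H := ((R0.2.map (St H o).subtype).of_equiv (Subgroup.subgroupOfEquivOfLe hRH).symm).toSylow hidx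
      have hScyc : IsCyclic (S : Subgroup H) := by
        haveI : IsCyclic R := isCyclic_of_surjective _ ((St H o).subtype.subgroupMap_surjective (R0 : Subgroup (St H o)))
        exact isCyclic_of_surjective _ (Subgroup.subgroupOfEquivOfLe hRH).symm.surjective
      have hmin : (Nat.card H).minFac = 2 := by
        rw [Nat.minFac_eq_two_iff, hcH]
        exact Dvd.dvd.mul_left (even_iff_two_dvd.1 (Nat.not_odd_iff_even.1 hs)) _
      have hgn : (⟨g, hg⟩ : H) ∈ Subgroup.normalizer ((S : Subgroup H) : Set H) := by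
        rw [Subgroup.mem_normalizer_iff]
        intro y
        exact ⟨fun hy => (hnorm y hy).2, fun hy => by
          have h5 : g⁻¹ * (g * (y : Perm (G ⧸ M)) * g⁻¹) * g ∈ R := (hnorm _ hy).1
          simp [mul_assoc] at h5
          exact h5⟩
      exact congrArg Subtype.val
        (Subgroup.mem_centralizer_iff.1 (hScyc.normalizer_le_centralizer hmin hgn) ⟨x, hRH hx⟩ hx))
    haveI : (K.subgroupOf H).Normal := ⟨fun x hx g => hKn g g.2 x hx⟩
    haveI : Group.IsSolvable (K.subgroupOf H) :=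
      haveI := hnp K (Nat.odd_iff.2 (by omega))
      Group.isSolvable_of_isSolvable_injective (Subgroup.subgroupOfEquivOfLe hKH).injective
        (f := (Subgroup.subgroupOfEquivOfLe hKH).toMonoidHom)
    have hp : IsPGroup 2 (H ⧸ K.subgroupOf H) := by
      intro q
      induction q using QuotientGroup.induction_on with
      | H g =>
        obtain ⟨v, w, hw, hvw⟩ := Nat.exists_eq_two_pow_mul_odd (orderOf_pos (g : Perm (G ⧸ M))).ne'
        refine ⟨v, ?_⟩
        rw [← QuotientGroup.mk_pow, QuotientGroup.eq_one_iff]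
        refine hKmem _ (g ^ 2 ^ v).2 ?_
        show (orderOf ((g : Perm (G ⧸ M)) ^ 2 ^ v)).Coprime 2
        rw [orderOf_pow, hvw, Nat.gcd_mul_right_left, Nat.mul_div_cancel_left _ (pow_pos two_pos v)]
        exact Nat.coprime_two_right.2 hw
    haveI : Group.IsSolvable (H ⧸ K.subgroupOf H) := by
      haveI := hp.isNilpotent
      infer_instance
    exact (Group.isSolvable_iff_subgroup_quotient (K.subgroupOf H)).2 ⟨inferInstance, inferInstance⟩
  have hcard2 : 2 ≤ Fintype.card (G ⧸ M) := by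
    obtain ⟨k, hk⟩ := heven
    have : 0 < Fintype.card (G ⧸ M) := Fintype.card_pos_iff.2 ⟨o⟩
    omega
  have hn2 : Fintype.card (G ⧸ M) ≠ 2 := by
    intro h2
    apply hns
    haveI : IsCyclic (Perm (G ⧸ M)) := by
      haveI : Fact (Nat.Prime 2) := ⟨Nat.prime_two⟩
      exact isCyclic_of_prime_card (p := 2) (by rw [Nat.card_perm, Nat.card_eq_fintype_card, h2]; rfl)
    letI := (IsCyclic.commGroup : CommGroup (Perm (G ⧸ M)))
    infer_instance
  have h4 : 4 ≤ Fintype.card (G ⧸ M) := by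
    obtain ⟨k, hk⟩ := heven; omega
  have hyp : Hyp H (A.map ρ) := ⟨hle, hcyc, hreg, hZ, two_of_primitive hle hcyc hreg hcard2
    (fun hp => by
      obtain ⟨k, hk⟩ := heven
      rcases hp.eq_one_or_self_of_dvd 2 ⟨k, by omega⟩ with e | e <;> omega) hprim, h4, heven⟩
  exact ⟨hyp, concl _ (G ⧸ M) rfl H _ hyp⟩

end H71.CycReg
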