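import Cfsg.Agent.H71.CycReg.Basic

/-!
Primitive groups with a regular cyclic subgroup of composite order are 2-transitive.
-/

set_option autoImplicit false
set_option linter.unusedSectionVars false

namespace H71.CycReg

open Equiv Pointwise

variable {Ω : Type*} [Fintype Ω] [DecidableEq Ω]

/-- Schur: cyclic groups of composite order are B-groups. -/
theorem two_of_primitive {G A : Subgroup (Perm Ω)} (hle : A ≤ G) (hcyc : IsCyclic A)
    (hreg : ∀ x y : Ω, ∃! α : A, (α : Perm Ω) x = y) (h4 : 2 ≤ Fintype.card Ω)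
    (hnp : ¬ (Fintype.card Ω).Prime) (hprim : MulAction.IsPreprimitive G Ω) :
    ∀ a b c d : Ω, a ≠ b → c ≠ d → ∃ g ∈ G, g a = c ∧ g b = d := by
  classical
  suffices h2 : MulAction.IsMultiplyPretransitive G Ω 2 by
    intro a b c d hab hcd
    obtain ⟨g, h1, h2'⟩ := MulAction.is_two_pretransitive_iff.1 h2 hab hcd
    exact ⟨g, g.2, h1, h2'⟩
  haveI := hcyc
  haveI := hprim
  by_cases hpp : IsPrimePow (Fintype.card Ω)
  · obtain ⟨p, k, hp, hk, hcard⟩ := (isPrimePow_nat_iff _).1 hpp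
    have hk2 : 2 ≤ k := by
      by_contra hlt
      have : k = 1 := by omega
      rw [this, pow_one] at hcard
      exact hnp (hcard ▸ hp)
    obtain ⟨α, hα⟩ := IsCyclic.exists_generator (α := A)
    have hord : orderOf (⟨α, hle α.2⟩ : G) = p ^ k := by
      rw [← Subgroup.orderOf_coe]
      show orderOf (α : Perm Ω) = _
      rw [Subgroup.orderOf_coe, orderOf_eq_card_of_forall_mem_zpowers hα, hcard]
      obtain ⟨a⟩ : Nonempty Ω := Fintype.card_pos_iff.1 (by omega)
      rw [← Nat.card_eq_fintype_card]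
      refine Nat.card_eq_of_bijective (fun α : A => (α : Perm Ω) a) ⟨fun α β e => ?_, fun y => ?_⟩
      · exact (hreg a ((β : Perm Ω) a)).unique e rfl
      · exact (hreg a y).exists
    by_contra h2
    exact (Cfsg.Agent.S3972.result p k hp hk2 hcard.symm G hprim.toIsPretransitive h2 _ hord).1 hprim
  · let C : Subgroup G := A.subgroupOf G
    have hC : IsCyclic C :=
      isCyclic_of_surjective _ (Subgroup.subgroupOfEquivOfLe hle).symm.surjective
    haveI : FaithfulSMul G Ω := ⟨fun {g k} e => Subtype.ext (Perm.ext e)⟩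
    refine (Cfsg.Agent.S3559.result (G := G) (Ω := Ω) hprim.toIsPretransitive
      (by rwa [Nat.card_eq_fintype_card]) (by rwa [Nat.card_eq_fintype_card]) C hC ⟨⟨fun x y => ?_⟩, fun a => ?_⟩).resolve_left (not_not.2 hprim)
    · obtain ⟨α, hα⟩ := (hreg x y).exists
      exact ⟨⟨⟨α, hle α.2⟩, α.2⟩, hα⟩
    · rw [Subgroup.eq_bot_iff_forall]
      rintro ⟨⟨g, hg⟩, hgA⟩ hfix
      have := (hreg a a).unique (y₁ := ⟨g, hgA⟩) (y₂ := 1) hfix rfl
      exact Subtype.ext (Subtype.ext (congrArg Subtype.val this : _))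

variable {G A : Subgroup (Perm Ω)}

/-- A subgroup normalised by `G` and containing the regular cyclic subgroup is primitive. -/
theorem Hyp.primitive_of_normal (h : Hyp G A) {K : Subgroup (Perm Ω)} (hAK : A ≤ K)
    (hKG : K ≤ G) (hn : ∀ g ∈ G, ∀ x ∈ K, g * x * g⁻¹ ∈ K) : MulAction.IsPreprimitive K Ω := by
  classical
  haveI : MulAction.IsPretransitive K Ω := ⟨fun x y => by
    obtain ⟨α, hα, hαy⟩ := h.exists_A x y
    exact ⟨⟨α, hAK hα⟩, hαy⟩⟩
  obtain ⟨a⟩ : Nonempty Ω := Fintype.card_pos_iff.1 (by have := h.four; omega)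
  refine MulAction.IsPreprimitive.of_isTrivialBlock_base a fun {B} haB hB => ?_
  by_contra htriv
  rw [MulAction.IsTrivialBlock, not_or] at htriv
  obtain ⟨b, hbB, hba⟩ : ∃ b ∈ B, b ≠ a := by
    by_contra hcon
    push Not at hcon
    exact htriv.1 fun x hx y hy => (hcon x hx).trans (hcon y hy).symm
  apply htriv.2
  rw [Set.eq_univ_iff_forall]
  intro c
  by_cases hca : c = a
  · exact hca ▸ haB
  obtain ⟨m, hm, hmb⟩ := h.stab_trans (a := a) hba hca
  suffices hmB : m • B = B by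
    rw [← hmB, ← hmb]
    exact Set.smul_mem_smul_set hbB
  have hmB' : MulAction.IsBlock K (m • B) := by
    rw [MulAction.isBlock_iff_smul_eq_of_mem]
    intro k x hx hkx
    obtain ⟨x0, hx0, rfl⟩ := hx
    have hk' : m⁻¹ * (k : Perm Ω) * m ∈ K := by
      simpa using hn m⁻¹ (inv_mem (St_le G a hm)) k k.2
    have hkey : (⟨_, hk'⟩ : K) • B = B := by
      refine (MulAction.isBlock_iff_smul_eq_of_mem.1 hB) hx0 ?_
      obtain ⟨y, hy, hy1⟩ := hkx
      have : (m⁻¹ * (k : Perm Ω) * m) x0 = y := by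
        rw [Perm.mul_apply, Perm.mul_apply, Perm.inv_eq_iff_eq]
        exact hy1.symm
      show (m⁻¹ * (k : Perm Ω) * m) x0 ∈ B
      rw [this]; exact hy
    show (k : Perm Ω) • m • B = m • B
    have h2 : (m⁻¹ * (k : Perm Ω) * m) • B = B := hkey
    conv_rhs => rw [← h2]
    rw [smul_smul, smul_smul]
    congr 1
    group
  have key : ∀ B1 : Set Ω, a ∈ B1 → MulAction.IsBlock K B1 →
      B1 = (fun α : Perm Ω => α a) '' ((A ⊓ MulAction.stabilizer (Perm Ω) B1 : Subgroup (Perm Ω)) : Set (Perm Ω)) ∧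
      Nat.card (A ⊓ MulAction.stabilizer (Perm Ω) B1 : Subgroup (Perm Ω)) = B1.ncard := by
    intro B1 haB1 hB1
    have heq : B1 = (fun α : Perm Ω => α a) '' ((A ⊓ MulAction.stabilizer (Perm Ω) B1 : Subgroup (Perm Ω)) : Set (Perm Ω)) := by
      ext x
      constructor
      · intro hx
        obtain ⟨α, hα, hαx⟩ := h.exists_A a x
        refine ⟨α, ⟨hα, ?_⟩, hαx⟩
        exact (MulAction.isBlock_iff_smul_eq_of_mem.1 hB1 (g := (⟨α, hAK hα⟩ : K)) haB1
          (show α a ∈ B1 by rw [hαx]; exact hx) : _)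
      · rintro ⟨α, ⟨hα, hαs⟩, rfl⟩
        rw [← (MulAction.mem_stabilizer_iff.1 hαs : α • B1 = B1)]
        exact Set.smul_mem_smul_set haB1
    refine ⟨heq, ?_⟩
    conv_rhs => rw [heq]
    rw [Set.ncard_image_of_injOn, ← Nat.card_coe_set_eq]
    · rfl
    · intro α hα β hβ e
      exact congrArg Subtype.val ((h.reg a (α a)).unique (y₁ := ⟨α, hα.1⟩) (y₂ := ⟨β, hβ.1⟩) rfl e.symm)
  have haB' : a ∈ m • B := ⟨a, haB, (mem_St.1 hm).2⟩
  obtain ⟨e1, c1⟩ := key B haB hB
  obtain ⟨e2, c2⟩ := key _ haB' hmB'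
  have := eq_of_le_cyclic (S := A) h.cyc
    (X := (A ⊓ MulAction.stabilizer (Perm Ω) (m • B) : Subgroup (Perm Ω)))
    (Y := (A ⊓ MulAction.stabilizer (Perm Ω) B : Subgroup (Perm Ω))) inf_le_left inf_le_left
    (by rw [c1, c2, Set.ncard_smul_set])
  rw [e2, this, ← e1]

end H71.CycReg
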