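import Cfsg.Agent.H71.CycReg.Centraliser

/-!
The case of an involution fixing exactly two points: degree `p + 1` and sharp 3-transitivity.
-/

set_option autoImplicit false
set_option linter.unusedSectionVars false

namespace H71.CycReg

open Equiv

variable {Ω : Type*} [Fintype Ω] [DecidableEq Ω]

/-- The conclusion: `p + 1` points, sharply 3-transitive, inverted two-point stabilisers, one class
of fixed-point-free involutions. -/
structure Concl (G : Subgroup (Perm Ω)) : Prop where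
  prime : (Fintype.card Ω - 1).Prime
  card_two : ∀ a b : Ω, a ≠ b → Nat.card (Dd G a b) = Fintype.card Ω - 2
  fix3 : ∀ g ∈ G, ∀ a b c : Ω, a ≠ b → a ≠ c → b ≠ c → g a = a → g b = b → g c = c → g = 1
  inv_swap : ∀ a b : Ω, a ≠ b → ∀ g ∈ G, g a = b → g b = a → ∀ d ∈ Dd G a b, g * d * g⁻¹ = d⁻¹
  fpf_conj : ∀ s ∈ G, ∀ t ∈ G, orderOf s = 2 → orderOf t = 2 → (∀ c, s c ≠ c) → (∀ c, t c ≠ c) →
    ∃ g ∈ G, g * s * g⁻¹ = t

namespace Ctx

variable {G A : Subgroup (Perm Ω)} {a : Ω} {τ z : Perm Ω} (hc : Ctx G A a τ z)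
include hc

theorem Nn_cases (hF : ∀ c, z c = c → c = a ∨ c = τ a) {g : Perm Ω} (hg : g ∈ Nn G z) :
    (g a = a ∧ g ∈ Dd G a (τ a)) ∨ (g a = τ a ∧ τ * g ∈ Dd G a (τ a)) := by
  have hgG := (mem_Nn.1 hg).1
  have h1 := hF _ ((Nn_fix hg a).2 hc.za)
  have h2 := hF _ ((Nn_fix hg (τ a)).2 hc.zb)
  rcases h1 with h1 | h1
  · refine Or.inl ⟨h1, mem_Dd.2 ⟨hgG, h1, h2.resolve_left fun e => hc.hab (g.injective (h1.trans e.symm))⟩⟩
  · refine Or.inr ⟨h1, mem_Dd.2 ⟨mul_mem (hc.hyp.le hc.tauA) hgG, ?_, ?_⟩⟩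
    · rw [Perm.mul_apply, h1, hc.tau_tau]
    · rw [Perm.mul_apply, h2.resolve_right fun e => hc.hab (g.injective (h1.trans e.symm))]

theorem inverted_semireg (hF : ∀ c, z c = c → c = a ∨ c = τ a) {d : Perm Ω} (hd : d ∈ Dd G a (τ a))
    (hinv : τ * d * τ⁻¹ = d⁻¹) {c : Ω} (hca : c ≠ a) (hcb : c ≠ τ a) (hdc : d c = c) : d = 1 := by
  by_contra hne
  obtain ⟨r, hr, hrd⟩ := Nat.exists_prime_and_dvd (n := orderOf d) (by simpa [orderOf_eq_one_iff] using hne)
  set e := d ^ (orderOf d / r) with he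
  have hoe : orderOf e = r := orderOf_pow_orderOf_div (orderOf_pos d).ne' hrd
  have heD : e ∈ Dd G a (τ a) := pow_mem hd _
  have hec : e c = c := Perm.pow_apply_eq_self_of_apply_eq_self hdc _
  have heinv : τ * e * τ⁻¹ = e⁻¹ := by
    rw [he, ← inv_pow, ← hinv]; exact (conj_pow ..).symm
  by_cases hr2 : r = 2
  · subst hr2
    have := hc.hyp.Dd_invol_unique hc.hab heD hc.zD hoe hc.oz
    rw [this] at hec
    exact (hF c hec).elim hca hcb
  have hgen : ∀ g ∈ G, g a ≠ g (τ a) → e (g a) = g a → e (g (τ a)) = g (τ a) →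
      g * e * g⁻¹ ∈ Subgroup.zpowers e ∧ e ∈ Subgroup.zpowers (g * e * g⁻¹) := by
    intro g hg hne' h1 h2
    have hm := conj_mem_Dd hg heD
    have heq := eq_of_le_cyclic (hc.hyp.Dd_cyclic hne')
      (Subgroup.zpowers_le.2 (mem_Dd.2 ⟨(mem_Dd.1 heD).1, h1, h2⟩)) (Subgroup.zpowers_le.2 hm)
      (by rw [Nat.card_zpowers, Nat.card_zpowers,
        show g * e * g⁻¹ = MulAut.conj g e from rfl, (MulAut.conj g).orderOf_eq])
    exact ⟨heq ▸ Subgroup.mem_zpowers _, heq ▸ Subgroup.mem_zpowers _⟩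
  have hconj : ∀ g ∈ G, e (g a) = g a → e (g (τ a)) = g (τ a) → ∀ y, Commute y e → Commute (g * y * g⁻¹) e := by
    intro g hg h1 h2 y hy
    obtain ⟨n, hn⟩ := Subgroup.mem_zpowers_iff.1 (hgen g hg (g.injective.ne hc.hab) h1 h2).2
    rw [← hn]
    exact (((hy.map (MulAut.conj g))).zpow_right n : _)
  have heb : e (τ a) = τ a := (mem_Dd.1 heD).2.2
  have hea : e a = a := (mem_Dd.1 heD).2.1
  have hCc : ∀ y ∈ Cc G a, e (y (τ a)) = y (τ a) → Commute y e := fun y hy h1 =>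
    ((hc.hyp.fix_iff_comm hc.hab heD hy).1 h1).symm
  obtain ⟨x, hx, hxc⟩ := hc.hyp.Cc_regular (Ne.symm hc.hab) hca
  have hxe : Commute x e := hCc x hx (by rw [hxc]; exact hec)
  obtain ⟨g, hg, hga, hgb⟩ := hc.hyp.two a (τ a) (τ a) a hc.hab (Ne.symm hc.hab)
  have hgib : g⁻¹ (τ a) = a := Perm.inv_eq_iff_eq.2 hga.symm
  have hgia : g⁻¹ a = τ a := Perm.inv_eq_iff_eq.2 hgb.symm
  set l0 := g * x * g⁻¹ with hl0
  have hl0e : Commute l0 e := hconj g hg (by rw [hga]; exact heb) (by rw [hgb]; exact hea) x hxe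
  have hl0a : l0 a = g c := by rw [hl0, Perm.mul_apply, Perm.mul_apply, hgia, hxc]
  have hl0b : l0 (τ a) = τ a := by
    rw [hl0, Perm.mul_apply, Perm.mul_apply, hgib, (mem_St.1 (hc.hyp.Cc_le a hx)).2, hga]
  have hc1 : e (g c) = g c := by
    rw [← hl0a, ← Perm.mul_apply, ← hl0e.eq, Perm.mul_apply, hea]
  have hc1a : g c ≠ a := fun h => hcb (g.injective (h.trans hgb.symm))
  have hc1b : g c ≠ τ a := fun h => hca (g.injective (h.trans hga.symm))
  obtain ⟨y, hy, hyb⟩ := hc.hyp.Cc_regular (Ne.symm hc.hab) hc1a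
  have hye : Commute y e := hCc y hy (by rw [hyb]; exact hc1)
  set m := y⁻¹ with hm
  have hmc : m (g c) = τ a := by rw [hm, Perm.inv_eq_iff_eq, hyb]
  set b' := m (τ a) with hb'
  have hb'b : b' ≠ τ a := fun h => hc1b (m.injective (hmc.trans h.symm))
  have hb'e : e b' = b' := by
    rw [hb', ← Perm.mul_apply, ← (hye.inv_left : Commute m e).eq, Perm.mul_apply, heb]
  have hc2 : e (g⁻¹ b') = g⁻¹ b' := by
    obtain ⟨n, hn⟩ := Subgroup.mem_zpowers_iff.1
      (hgen g hg (g.injective.ne hc.hab) (by rw [hga]; exact heb) (by rw [hgb]; exact hea)).1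
    have : (g * e * g⁻¹) b' = b' := by rw [← hn]; exact Perm.zpow_apply_eq_self_of_apply_eq_self hb'e n
    rw [Perm.mul_apply, Perm.mul_apply] at this
    exact (Perm.eq_inv_iff_eq).2 this
  have hc2a : g⁻¹ b' ≠ a := fun h => hb'b ((Perm.inv_eq_iff_eq.1 h).trans hga)
  obtain ⟨y', hy', hy'b⟩ := hc.hyp.Cc_regular (Ne.symm hc.hab) hc2a
  have hy'e : Commute y' e := hCc y' hy' (by rw [hy'b]; exact hc2)
  set l := g * y'⁻¹ * g⁻¹ * (m * l0) with hl
  have hle : Commute l e :=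
    (hconj g hg (by rw [hga]; exact heb) (by rw [hgb]; exact hea) _ hy'e.inv_left).mul_left
      ((hye.inv_left).mul_left hl0e)
  have hy'a : y'⁻¹ a = a := by rw [Perm.inv_eq_iff_eq, (mem_St.1 (hc.hyp.Cc_le a hy')).2]
  have hla : l a = τ a := by
    simp only [hl, Perm.mul_apply]; rw [hl0a, hmc, hgib, hy'a, hga]
  have hlb : l (τ a) = a := by
    simp only [hl, Perm.mul_apply]; rw [hl0b, ← hb', Perm.inv_eq_iff_eq.2 hy'b.symm, hgb]
  have hlG : l ∈ G :=
    mul_mem (mul_mem (mul_mem hg (inv_mem (St_le G a (hc.hyp.Cc_le a hy')))) (inv_mem hg))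
      (mul_mem (inv_mem (St_le G a (hc.hyp.Cc_le a hy))) (mul_mem (mul_mem hg (St_le G a (hc.hyp.Cc_le a hx))) (inv_mem hg)))
  have hlz : l ∈ Nn G z := mem_Nn.2 ⟨hlG, by
    refine mul_inv_eq_iff_eq_mul.1 (hc.invol_eq hc.hab (mul_mem (mul_mem hlG hc.zG) (inv_mem hlG))
      (by rw [show l * z * l⁻¹ = MulAut.conj l z from rfl, (MulAut.conj l).orderOf_eq, hc.oz]) ?_ ?_ hc.za hc.zb)
    · rw [Perm.mul_apply, Perm.mul_apply, Perm.inv_eq_iff_eq.2 hlb.symm, hc.zb, hlb]
    · rw [Perm.mul_apply, Perm.mul_apply, Perm.inv_eq_iff_eq.2 hla.symm, hc.za, hla]⟩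
  rcases hc.Nn_cases hF hlz with ⟨h1, -⟩ | ⟨-, h1⟩
  · exact hc.hab (h1.symm.trans hla)
  have h2 : Commute (τ * l) e := hc.hyp.Dd_comm hc.hab h1 heD
  have h3 : Commute τ e := by simpa using h2.mul_left hle.inv_left
  have h4 : e⁻¹ = e := by rw [← heinv, h3.eq, mul_inv_cancel_right]
  have h5 : orderOf e ∣ 2 := orderOf_dvd_of_pow_eq_one (by rw [pow_two]; exact mul_eq_one_iff_inv_eq.2 h4)
  rw [hoe] at h5
  exact hr2 ((Nat.prime_dvd_prime_iff_eq hr Nat.prime_two).1 h5)

/-- Conjugates of `z` indexed by the other points. -/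
theorem exists_w (hF : ∀ c, z c = c → c = a ∨ c = τ a) {c : Ω} (hca : c ≠ a) (hcb : c ≠ τ a) :
    ∃ e ∈ Dd G a (τ a), τ * e * τ⁻¹ = e⁻¹ ∧ e ≠ 1 ∧
      (τ * e) c = c ∧ ∀ x, (τ * e) x = x → x = c ∨ x = z c := by
  have hzc : z c ≠ c := fun e => (hF c e).elim hca hcb
  obtain ⟨g, hg, hga, hgb⟩ := hc.hyp.two a (τ a) c (z c) hc.hab (Ne.symm hzc)
  set w := g * z * g⁻¹ with hw
  have hwG : w ∈ G := mul_mem (mul_mem hg hc.zG) (inv_mem hg)
  have how : orderOf w = 2 := by rw [hw, show g * z * g⁻¹ = MulAut.conj g z from rfl, (MulAut.conj g).orderOf_eq, hc.oz]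
  have hwc : w c = c := by rw [hw, Perm.mul_apply, Perm.mul_apply, Perm.inv_eq_iff_eq.2 hga.symm, hc.za, hga]
  have hwzc : w (z c) = z c := by rw [hw, Perm.mul_apply, Perm.mul_apply, Perm.inv_eq_iff_eq.2 hgb.symm, hc.zb, hgb]
  have hzz : ∀ x, z (z x) = x := fun x => by
    rw [← Perm.mul_apply, sq_one_of_order_two hc.oz, Perm.one_apply]
  have hzinv : z⁻¹ = z := inv_eq_of_mul_eq_one_right (sq_one_of_order_two hc.oz)
  have hwz : w * z = z * w := by
    have hm : z * w * z⁻¹ ∈ Dd G c (z c) := by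
      refine mem_Dd.2 ⟨mul_mem (mul_mem hc.zG hwG) (inv_mem hc.zG), ?_, ?_⟩
      · rw [hzinv, Perm.mul_apply, Perm.mul_apply, hwzc, hzz]
      · rw [hzinv, Perm.mul_apply, Perm.mul_apply, hzz, hwc]
    exact (mul_inv_eq_iff_eq_mul.1 (hc.hyp.Dd_invol_unique (Ne.symm hzc) hm (mem_Dd.2 ⟨hwG, hwc, hwzc⟩)
      (by rw [show z * w * z⁻¹ = MulAut.conj z w from rfl, (MulAut.conj z).orderOf_eq, how]) how)).symm
  have hwN : w ∈ Nn G z := mem_Nn.2 ⟨hwG, hwz⟩
  rcases hc.Nn_cases hF hwN with ⟨-, h1⟩ | ⟨-, h1⟩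
  · rw [hc.hyp.Dd_invol_unique hc.hab h1 hc.zD how hc.oz] at hwc
    exact absurd hwc hzc
  have hτw : τ * (τ * w) = w := by rw [← mul_assoc, sq_one_of_order_two hc.otau, one_mul]
  refine ⟨τ * w, h1, ?_, ?_, by rw [hτw]; exact hwc, fun x hx => ?_⟩
  · rw [hτw, mul_inv_rev, inv_eq_of_mul_eq_one_right (sq_one_of_order_two how)]
  · intro e
    rw [e, mul_one] at hτw
    exact hc.tau_ne c (hτw ▸ hwc)
  · rw [hτw, hw, Perm.mul_apply, Perm.mul_apply] at hx
    have h2 := hF (g⁻¹ x) ((Perm.eq_inv_iff_eq).2 hx)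
    rcases h2 with h2 | h2
    · left; rw [← hga, ← h2, ← Perm.mul_apply, mul_inv_cancel, Perm.one_apply]
    · right; rw [← hgb, ← h2, ← Perm.mul_apply, mul_inv_cancel, Perm.one_apply]

theorem concl_of_twofix (hF : ∀ c, z c = c → c = a ∨ c = τ a) : Concl G := by
  classical
  have h4 := hc.hyp.four
  set D := Dd G a (τ a) with hDdef
  have hτi := hc.tau_inv
  let E : Subgroup (Perm Ω) :=
    { carrier := {d | d ∈ D ∧ τ * d * τ⁻¹ = d⁻¹}
      one_mem' := ⟨one_mem _, by simp⟩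
      mul_mem' := fun {p q} hp hq => ⟨mul_mem hp.1 hq.1, by
        rw [mul_inv_rev, ← hp.2, ← hq.2, conj_mul, hc.hyp.Dd_comm hc.hab hp.1 hq.1]⟩
      inv_mem' := fun {p} hp => ⟨inv_mem hp.1, by rw [← conj_inv, hp.2]⟩ }
  have hzE : z ∈ E := ⟨hc.zD, by
    rw [hc.z_tau, mul_inv_cancel_right, eq_inv_iff_mul_eq_one, sq_one_of_order_two hc.oz]⟩
  -- the count
  choose f hf using fun c : {c : Ω // c ≠ a ∧ c ≠ τ a} => hc.exists_w hF c.2.1 c.2.2
  let Ef : Finset (Perm Ω) := Finset.univ.filter fun e => e ∈ E ∧ e ≠ 1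
  let I : Finset (Perm Ω) := Finset.univ.image f
  have hIE : I ⊆ Ef := by
    intro e he
    obtain ⟨c, -, rfl⟩ := Finset.mem_image.1 he
    exact Finset.mem_filter.2 ⟨Finset.mem_univ _, ⟨(hf c).1, (hf c).2.1⟩, (hf c).2.2.1⟩
  have hcardc : Fintype.card {c : Ω // c ≠ a ∧ c ≠ τ a} = Fintype.card Ω - 2 := by
    rw [Fintype.card_subtype, show (Finset.univ.filter fun c => c ≠ a ∧ c ≠ τ a) = ({a, τ a} : Finset Ω)ᶜ by
      ext c; simp, Finset.card_compl, Finset.card_pair hc.hab]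
  have hI : Fintype.card Ω - 2 ≤ 2 * I.card := by
    rw [← hcardc, ← Finset.card_univ]
    refine Finset.card_le_mul_card_image _ 2 fun e he => ?_
    obtain ⟨c, -, hce⟩ := Finset.mem_image.1 he
    refine le_trans (Finset.card_le_card_of_injOn (t := ({(c : Ω), z c} : Finset Ω)) Subtype.val ?_
      Subtype.val_injective.injOn) Finset.card_le_two
    intro x hx
    simp only [Finset.coe_filter, Finset.mem_univ, true_and, Set.mem_setOf_eq] at hx
    simp only [Finset.coe_insert, Finset.coe_singleton, Set.mem_insert_iff, Set.mem_singleton_iff]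
    refine (hf c).2.2.2.2 x ?_
    rw [hce, ← hx]
    exact (hf x).2.2.2.1
  have hEf : Ef.card + 1 = Nat.card E := by
    rw [Nat.card_eq_fintype_card, Fintype.card_subtype,
      show Ef = (Finset.univ.filter fun e => e ∈ E).erase 1 by ext e; simp [Ef, and_comm],
      Finset.card_erase_add_one]
    simp
  have hcount : Fintype.card Ω - 2 + 2 ≤ 2 * Nat.card E := by
    have := Finset.card_le_card hIE
    omega
  -- `n - 1` is prime
  have hq : (Fintype.card Ω - 1).Prime := by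
    set q := Fintype.card Ω - 1 with hqdef
    by_contra hnp
    set s := q.minFac with hs
    have hsp : s.Prime := Nat.minFac_prime (by omega)
    haveI := Fact.mk hsp
    obtain ⟨y, hy⟩ := exists_prime_orderOf_dvd_card' (G := Cc G a) s (by
      rw [hc.hyp.card_Cc a]; exact Nat.minFac_dvd q)
    have hmem : ∀ e : E, (e : Perm Ω) * y * (e : Perm Ω)⁻¹ ∈ Subgroup.zpowers (y : Perm Ω) := by
      intro e
      have h1 := hc.hyp.Cc_normal (Dd_le_left G a _ e.2.1) y.2
      have := eq_of_le_cyclic (hc.hyp.Cc_cyclic a) (Subgroup.zpowers_le.2 h1) (Subgroup.zpowers_le.2 y.2)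
        (by rw [Nat.card_zpowers, Nat.card_zpowers,
          show (e : Perm Ω) * y * (e : Perm Ω)⁻¹ = MulAut.conj (e : Perm Ω) y from rfl, MulEquiv.orderOf_eq])
      exact this ▸ Subgroup.mem_zpowers _
    have hy1 : (y : Perm Ω) ≠ 1 := by
      intro e
      rw [← Subgroup.orderOf_coe, e, orderOf_one] at hy
      exact hsp.one_lt.ne hy
    have hne1 : ∀ e : E, (e : Perm Ω) * y * (e : Perm Ω)⁻¹ ≠ 1 := fun e => by simp [hy1]
    have hinj : Function.Injective (fun e : E =>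
        (⟨⟨_, hmem e⟩, fun h => hne1 e (congrArg Subtype.val h)⟩ :
          {w : Subgroup.zpowers (y : Perm Ω) // w ≠ 1})) := by
      intro e e' he
      simp only [Subtype.mk.injEq] at he
      have hcomm : ((e'⁻¹ * e : E) : Perm Ω) * y = y * ((e'⁻¹ * e : E) : Perm Ω) := by
        simp only [Subgroup.coe_mul, Subgroup.coe_inv]
        have h2 := mul_inv_eq_iff_eq_mul.1 he
        rw [mul_assoc, h2]
        group
      have hfix := (hc.hyp.fix_iff_comm hc.hab (e'⁻¹ * e).2.1 y.2).2 hcomm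
      have h3 := hc.inverted_semireg hF (e'⁻¹ * e).2.1 (e'⁻¹ * e).2.2
        (hc.hyp.Cc_ne y.2 (Ne.symm hc.hab)) (fun h => hy1 (hc.hyp.Cc_semireg hc.hab y.2 h)) hfix
      exact (inv_mul_eq_one.1 (Subtype.ext h3 : e'⁻¹ * e = 1)).symm
    have hle := Nat.card_le_card_of_injective _ hinj
    rw [Nat.card_eq_fintype_card (α := {w : Subgroup.zpowers (y : Perm Ω) // w ≠ 1}),
      Fintype.card_subtype_compl, Fintype.card_subtype_eq,
      ← Nat.card_eq_fintype_card, Nat.card_zpowers, Subgroup.orderOf_coe, hy] at hle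
    have hs2 : s ^ 2 ≤ q := Nat.minFac_sq_le_self (by omega) hnp
    have h2s := hsp.two_le
    have : 2 * s ≤ s ^ 2 := by nlinarith
    omega
  -- `D` is semiregular
  have hsemi : ∀ d ∈ D, ∀ c, c ≠ a → c ≠ τ a → d c = c → d = 1 := by
    intro d hd c hca hcb hdc
    obtain ⟨x, hx, hxc⟩ := hc.hyp.Cc_regular (Ne.symm hc.hab) hca
    have hxd : d * x = x * d := (hc.hyp.fix_iff_comm hc.hab hd hx).1 (by rw [hxc]; exact hdc)
    refine hc.hyp.eq_one_of_fix_all hc.hab hd fun y hy => ?_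
    haveI : Fact (Fintype.card Ω - 1).Prime := ⟨hq⟩
    have hx1 : (⟨x, hx⟩ : Cc G a) ≠ 1 := fun e => hcb (by
      rw [← hxc, show x = 1 from congrArg Subtype.val e, Perm.one_apply])
    have := zpowers_eq_top_of_prime_card (hc.hyp.card_Cc a) hx1
    obtain ⟨n, hn⟩ := Subgroup.mem_zpowers_iff.1 (this ▸ Subgroup.mem_top (⟨y, hy⟩ : Cc G a))
    have hn' : x ^ n = y := by simpa using congrArg Subtype.val hn
    rw [← hn']
    exact (Commute.zpow_right hxd n : _)
  have hDle : Nat.card D ≤ Fintype.card Ω - 2 := by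
    obtain ⟨c, hca, hcb⟩ := hc.hyp.exists_third a (τ a)
    rw [← hcardc, ← Nat.card_eq_fintype_card]
    refine Nat.card_le_card_of_injective (fun d : D => (⟨(d : Perm Ω) c,
      fun e => hca ((d : Perm Ω).injective (e.trans (mem_Dd.1 d.2).2.1.symm)),
      fun e => hcb ((d : Perm Ω).injective (e.trans (mem_Dd.1 d.2).2.2.symm))⟩ :
        {x : Ω // x ≠ a ∧ x ≠ τ a})) fun d d' e => ?_
    have e' : (d : Perm Ω) c = (d' : Perm Ω) c := congrArg Subtype.val e
    exact Subtype.ext (inv_mul_eq_one.1 (hsemi _ (mul_mem (inv_mem d'.2) d.2) c hca hcb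
      (by rw [Perm.mul_apply, e', Perm.inv_eq_iff_eq]))).symm
  have hED : E ≤ D := fun d hd => hd.1
  have hEq : E = D := by
    obtain ⟨k, hk⟩ := Subgroup.card_dvd_of_le hED
    have hk2 : k < 2 := by
      by_contra hlt
      have : 2 * Nat.card E ≤ Nat.card D := by rw [hk, mul_comm 2]; exact Nat.mul_le_mul_left _ (by omega)
      omega
    have hk0 : k ≠ 0 := fun e => Nat.card_pos.ne' (by rw [hk, e, mul_zero] : Nat.card D = 0)
    refine Subgroup.eq_of_le_of_card_ge hED ?_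
    rw [hk, show k = 1 by omega, mul_one]
  have hdvd : Nat.card D ∣ Fintype.card Ω - 2 := by
    haveI := hc.hyp.Cc_cyclic a
    have hle : D ≤ Subgroup.normalizer ((Cc G a : Subgroup (Perm Ω)) : Set (Perm Ω)) := by
      intro d hd
      rw [Subgroup.mem_normalizer_iff]
      refine fun y => ⟨hc.hyp.Cc_normal (Dd_le_left G a _ hd), fun hy => ?_⟩
      simpa [mul_assoc] using hc.hyp.Cc_normal (inv_mem (Dd_le_left G a _ hd)) hy
    have hinj : Function.Injective ((Cc G a).normalizerMonoidHom.comp (Subgroup.inclusion hle)) := by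
      rw [injective_iff_map_eq_one]
      intro d hd
      refine Subtype.ext (hc.hyp.eq_one_of_fix_all hc.hab d.2 fun y hy => ?_)
      have := congrArg Subtype.val (MulEquiv.ext_iff.1 hd ⟨y, hy⟩)
      exact mul_inv_eq_iff_eq_mul.1 this
    have := Subgroup.card_dvd_of_injective _ hinj
    rw [IsCyclic.card_mulAut, hc.hyp.card_Cc a, Nat.totient_prime hq] at this
    rwa [show Fintype.card Ω - 1 - 1 = Fintype.card Ω - 2 by omega] at this
  have hcardD : Nat.card D = Fintype.card Ω - 2 := by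
    obtain ⟨k, hk⟩ := hdvd
    rw [hEq] at hcount
    have hk2 : k < 2 := by
      by_contra hlt
      have : 2 * Nat.card D ≤ Fintype.card Ω - 2 := by rw [hk, mul_comm 2]; exact Nat.mul_le_mul_left _ (by omega)
      omega
    have hk0 : k ≠ 0 := fun e => by rw [e, mul_zero] at hk; omega
    rw [hk, show k = 1 by omega, mul_one]
  have hinvD : ∀ d ∈ D, τ * d * τ⁻¹ = d⁻¹ := fun d hd => (hEq ▸ hd : d ∈ E).2
  -- transport
  have move : ∀ p q : Ω, p ≠ q → ∃ g ∈ G, g p = a ∧ g q = τ a := fun p q hpq =>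
    hc.hyp.two p q a (τ a) hpq hc.hab
  have tomem : ∀ {g p q d}, g ∈ G → g p = a → g q = τ a → d ∈ Dd G p q → g * d * g⁻¹ ∈ D := by
    intro g p q d hg h1 h2 hd
    have := conj_mem_Dd hg hd
    rwa [h1, h2] at this
  refine ⟨hq, ?_, ?_, ?_, ?_⟩
  · intro p q hpq
    obtain ⟨g, hg, h1, h2⟩ := move p q hpq
    rw [← hcardD]
    refine Nat.card_congr ⟨fun d => ⟨g * d * g⁻¹, tomem hg h1 h2 d.2⟩,
      fun d => ⟨g⁻¹ * d * g, ?_⟩, fun d => Subtype.ext (by simp [mul_assoc]),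
      fun d => Subtype.ext (by simp [mul_assoc])⟩
    have := conj_mem_Dd (inv_mem hg) d.2
    rwa [Perm.inv_eq_iff_eq.2 h1.symm, Perm.inv_eq_iff_eq.2 h2.symm, inv_inv] at this
  · intro x hx p q r hpq hpr hqr hp hq' hr
    obtain ⟨g, hg, h1, h2⟩ := move p q hpq
    have := hsemi _ (tomem hg h1 h2 (mem_Dd.2 ⟨hx, hp, hq'⟩)) (g r)
      (fun e => hpr (g.injective (h1.trans e.symm))) (fun e => hqr (g.injective (h2.trans e.symm)))
      (by simp [hr])
    exact conj_eq_one_iff.1 this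
  · intro p q hpq s hs hsp hsq d hd
    obtain ⟨g, hg, h1, h2⟩ := move p q hpq
    have hgia : g⁻¹ a = p := Perm.inv_eq_iff_eq.2 h1.symm
    have hgib : g⁻¹ (τ a) = q := Perm.inv_eq_iff_eq.2 h2.symm
    have hs' : τ * (g * s * g⁻¹) ∈ D := mem_Dd.2 ⟨mul_mem (hc.hyp.le hc.tauA) (mul_mem (mul_mem hg hs) (inv_mem hg)),
      by simp only [Perm.mul_apply]; rw [hgia, hsp, h2, hc.tau_tau],
      by simp only [Perm.mul_apply]; rw [hgib, hsq, h1]⟩
    have hd' := tomem hg h1 h2 hd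
    have key : (g * s * g⁻¹) * (g * d * g⁻¹) * (g * s * g⁻¹)⁻¹ = (g * d * g⁻¹)⁻¹ := by
      set u := τ * (g * s * g⁻¹) with hu
      have e : g * s * g⁻¹ = τ * u := by
        rw [hu, ← mul_assoc τ τ, sq_one_of_order_two hc.otau, one_mul]
      rw [e, ← hinvD _ hd']
      have hcomm := hc.hyp.Dd_comm hc.hab hs' hd'
      rw [mul_inv_rev, mul_assoc τ u, hcomm]
      group
    apply (MulAut.conj g).injective
    simp only [MulAut.conj_apply]
    rw [show g * d⁻¹ * g⁻¹ = (g * d * g⁻¹)⁻¹ by group, ← key]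
    group
  · intro s hs t ht hos hot hsf htf
    suffices key : ∀ u ∈ G, orderOf u = 2 → (∀ c, u c ≠ c) → ∃ g ∈ G, g * u * g⁻¹ = τ by
      obtain ⟨g, hg, h1⟩ := key s hs hos hsf
      obtain ⟨k, hk, h2⟩ := key t ht hot htf
      exact ⟨k⁻¹ * g, mul_mem (inv_mem hk) hg, by
        rw [show k⁻¹ * g * s * (k⁻¹ * g)⁻¹ = k⁻¹ * (g * s * g⁻¹) * k by group, h1, ← h2]; group⟩
    intro u hu hou huf
    obtain ⟨g, hg, h1, h2⟩ := move a (u a) (Ne.symm (huf a))
    set v := g * u * g⁻¹ with hv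
    have hvv : v * v = 1 := by rw [hv, conj_mul, sq_one_of_order_two hou, mul_one, mul_inv_cancel]
    have hvfix : ∀ c, v c ≠ c := fun c e => huf (g⁻¹ c) (by
      rw [hv, Perm.mul_apply, Perm.mul_apply] at e; exact (Perm.eq_inv_iff_eq).2 e)
    have hva : v a = τ a := by
      rw [hv, Perm.mul_apply, Perm.mul_apply, Perm.inv_eq_iff_eq.2 h1.symm, h2]
    have hvb : v (τ a) = a := by rw [← hva, ← Perm.mul_apply, hvv, Perm.one_apply]
    have hvG : v ∈ G := mul_mem (mul_mem hg hu) (inv_mem hg)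
    have hveD : τ * v ∈ D := mem_Dd.2 ⟨mul_mem (hc.hyp.le hc.tauA) hvG,
      by rw [Perm.mul_apply, hva, hc.tau_tau], by rw [Perm.mul_apply, hvb]⟩
    let Df : Finset (Perm Ω) := Finset.univ.filter fun d => d ∈ D
    let S : Finset (Perm Ω) := Df.image fun d => d * d
    have hDf : Df.card = Nat.card D := by rw [Nat.card_eq_fintype_card, Fintype.card_subtype]
    have hS : Df.card ≤ 2 * S.card := by
      refine Finset.card_le_mul_card_image _ 2 fun e he => ?_
      obtain ⟨d, hd, hde⟩ := Finset.mem_image.1 he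
      refine le_trans (Finset.card_le_card (t := {d, d * z}) fun x hx => ?_) Finset.card_le_two
      simp only [Finset.mem_filter, Finset.mem_univ, true_and, Df] at hx hd
      rw [Finset.mem_insert, Finset.mem_singleton]
      by_cases hxd : x = d
      · exact Or.inl hxd
      right
      have hcm := hc.hyp.Dd_comm hc.hab (inv_mem hd) hx.1
      have hsq : (d⁻¹ * x) * (d⁻¹ * x) = 1 := by
        calc (d⁻¹ * x) * (d⁻¹ * x) = d⁻¹ * (x * d⁻¹) * x := by group
          _ = d⁻¹ * d⁻¹ * (x * x) := by rw [← hcm]; group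
          _ = 1 := by rw [hx.2, ← hde]; group
      have := hc.hyp.Dd_invol_unique hc.hab (mul_mem (inv_mem hd) hx.1) hc.zD
        (order_two_of_sq hsq (fun e => hxd (inv_mul_eq_one.1 e).symm)) hc.oz
      rw [← this, mul_inv_cancel_left]
    have hdisj : Disjoint S I := by
      rw [Finset.disjoint_left]
      intro e he hei
      obtain ⟨d, hd, rfl⟩ := Finset.mem_image.1 he
      simp only [Finset.mem_filter, Finset.mem_univ, true_and, Df] at hd
      obtain ⟨c, -, hce⟩ := Finset.mem_image.1 hei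
      have hfix := (hf c).2.2.2.1
      rw [hce] at hfix
      have : τ * (d * d) = d⁻¹ * τ * d := by
        rw [← hinvD d hd, hτi, mul_assoc τ d τ, mul_assoc τ (d * τ) τ, mul_assoc d τ τ,
          sq_one_of_order_two hc.otau, mul_one, mul_assoc]
      rw [this, Perm.mul_apply, Perm.mul_apply, Perm.inv_eq_iff_eq] at hfix
      exact hc.tau_ne _ hfix
    have hsub : S ∪ I ⊆ Df := by
      intro e he
      rcases Finset.mem_union.1 he with he | he
      · obtain ⟨d, hd, rfl⟩ := Finset.mem_image.1 he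
        simp only [Finset.mem_filter, Finset.mem_univ, true_and, Df] at hd ⊢
        exact mul_mem hd hd
      · obtain ⟨c, -, rfl⟩ := Finset.mem_image.1 he
        simp only [Finset.mem_filter, Finset.mem_univ, true_and, Df]
        exact (hf c).1
    have heq : S ∪ I = Df := Finset.eq_of_subset_of_card_le hsub (by
      rw [Finset.card_union_of_disjoint hdisj]
      omega)
    have hmem : τ * v ∈ S ∪ I := by rw [heq]; simp [Df, hveD]
    rcases Finset.mem_union.1 hmem with he | he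
    · obtain ⟨d, hd, hde⟩ := Finset.mem_image.1 he
      simp only [Finset.mem_filter, Finset.mem_univ, true_and, Df] at hd
      refine ⟨d * g, mul_mem (mem_Dd.1 hd).1 hg, ?_⟩
      have hv' : v = τ * (d * d) := by
        rw [hde, ← mul_assoc, sq_one_of_order_two hc.otau, one_mul]
      calc d * g * u * (d * g)⁻¹ = d * v * d⁻¹ := by rw [hv]; group
        _ = d * τ * d := by rw [hv']; group
        _ = τ * (τ * d * τ) * d := by
          rw [← mul_assoc, ← mul_assoc, sq_one_of_order_two hc.otau, one_mul]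
        _ = τ := by
          rw [show τ * d * τ = d⁻¹ by rw [← hinvD d hd, hτi], mul_assoc, inv_mul_cancel, mul_one]
    · obtain ⟨c, -, hce⟩ := Finset.mem_image.1 he
      exfalso
      have hfix := (hf c).2.2.2.1
      rw [hce, ← mul_assoc, sq_one_of_order_two hc.otau, one_mul] at hfix
      exact hvfix _ hfix

end Ctx

end H71.CycReg
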