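import Cfsg.Agent.H71.CycReg.Hall

/-!
Two-point stabilisers: cyclic, of even order, containing an odd permutation.
-/

set_option autoImplicit false
set_option linter.unusedSectionVars false

namespace H71.CycReg

open Equiv

variable {Ω : Type*} [Fintype Ω] [DecidableEq Ω]

theorem Dd_le_left (G : Subgroup (Perm Ω)) (a b : Ω) : Dd G a b ≤ St G a := inf_le_left

theorem Dd_le (G : Subgroup (Perm Ω)) (a b : Ω) : Dd G a b ≤ G :=
  (Dd_le_left G a b).trans (St_le G a)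

theorem conj_mem_Dd {G : Subgroup (Perm Ω)} {g d : Perm Ω} (hg : g ∈ G) {a b : Ω}
    (hd : d ∈ Dd G a b) : g * d * g⁻¹ ∈ Dd G (g a) (g b) := by
  rw [mem_Dd] at hd ⊢
  exact ⟨mul_mem (mul_mem hg hd.1) (inv_mem hg), by simp [hd.2.1], by simp [hd.2.2]⟩

namespace Hyp

variable {G A : Subgroup (Perm Ω)} (h : Hyp G A)
include h

theorem odd_sub_one : Odd (Fintype.card Ω - 1) := by
  obtain ⟨k, hk⟩ := h.even
  have := h.four
  exact ⟨k - 1, by omega⟩

theorem Cc_ne {a b : Ω} {x : Perm Ω} (hx : x ∈ Cc G a) (hb : b ≠ a) : x b ≠ a := fun e =>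
  hb (x.injective (e.trans (mem_St.1 (h.Cc_le a hx)).2.symm))

theorem St_decomp {a b : Ω} (hab : a ≠ b) {m : Perm Ω} (hm : m ∈ St G a) :
    ∃ x ∈ Cc G a, x⁻¹ * m ∈ Dd G a b := by
  have hne : m b ≠ a := fun e => hab (m.injective (e.trans (mem_St.1 hm).2.symm)).symm
  obtain ⟨x, hx, hxb⟩ := h.Cc_regular (Ne.symm hab) hne
  have hmem := mul_mem (inv_mem (h.Cc_le a hx)) hm
  exact ⟨x, hx, mem_Dd.2 ⟨(mem_St.1 hmem).1, (mem_St.1 hmem).2,
    by rw [Perm.mul_apply, Perm.inv_eq_iff_eq, hxb]⟩⟩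

theorem Dd_inf_Cc {a b : Ω} (hab : a ≠ b) {x : Perm Ω} (hd : x ∈ Dd G a b) (hx : x ∈ Cc G a) :
    x = 1 :=
  h.Cc_semireg hab hx (mem_Dd.1 hd).2.2

theorem Dd_comm {a b : Ω} (hab : a ≠ b) {d e : Perm Ω} (hd : d ∈ Dd G a b) (he : e ∈ Dd G a b) :
    d * e = e * d := by
  have h1 := h.Dd_inf_Cc hab (mul_mem (mul_mem (mul_mem hd he) (inv_mem hd)) (inv_mem he))
    (h.comm_mem_Cc (Dd_le_left G a b hd) (Dd_le_left G a b he))
  exact mul_inv_eq_iff_eq_mul.1 (mul_inv_eq_one.1 h1)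

theorem Dd_cyclic {a b : Ω} (hab : a ≠ b) : IsCyclic (Dd G a b) := by
  haveI := h.hZ a
  haveI : IsZGroup (Dd G a b) :=
    IsZGroup.of_injective (f := Subgroup.inclusion (Dd_le_left G a b)) (Subgroup.inclusion_injective _)
  haveI : Group.IsNilpotent (Dd G a b) := by
    letI : CommGroup (Dd G a b) :=
      { (inferInstance : Group (Dd G a b)) with
        mul_comm := fun d e => Subtype.ext (h.Dd_comm hab d.2 e.2) }
    exact CommGroup.isNilpotent
  infer_instance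

theorem Dd_invol_unique {a b : Ω} (hab : a ≠ b) {x y : Perm Ω} (hx : x ∈ Dd G a b)
    (hy : y ∈ Dd G a b) (hox : orderOf x = 2) (hoy : orderOf y = 2) : x = y :=
  invol_unique (h.Dd_cyclic hab) hx hy hox hoy

/-- For `d` fixing `a, b` and `x` in the regular part, `d` fixes `x b` iff they commute. -/
theorem fix_iff_comm {a b : Ω} (hab : a ≠ b) {d x : Perm Ω} (hd : d ∈ Dd G a b) (hx : x ∈ Cc G a) :
    d (x b) = x b ↔ d * x = x * d := by
  constructor
  · intro e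
    have hy : d * x * d⁻¹ ∈ Cc G a := h.Cc_normal (Dd_le_left G a b hd) hx
    have h1 : (x⁻¹ * (d * x * d⁻¹)) b = b := by
      simp only [Perm.mul_apply]
      rw [Perm.inv_eq_iff_eq.2 (mem_Dd.1 hd).2.2.symm, e, Perm.inv_eq_iff_eq]
    have h2 := inv_mul_eq_one.1 (h.Cc_semireg hab (mul_mem (inv_mem hx) hy) h1)
    exact (mul_inv_eq_iff_eq_mul.1 h2.symm)
  · intro e
    rw [← Perm.mul_apply, e, Perm.mul_apply, (mem_Dd.1 hd).2.2]

theorem eq_one_of_fix_all {a b : Ω} (hab : a ≠ b) {d : Perm Ω} (hd : d ∈ Dd G a b)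
    (hc : ∀ x ∈ Cc G a, d * x = x * d) : d = 1 := by
  ext c
  by_cases hca : c = a
  · rw [hca]; exact (mem_Dd.1 hd).2.1
  · obtain ⟨x, hx, rfl⟩ := h.Cc_regular (Ne.symm hab) hca
    exact (h.fix_iff_comm hab hd hx).2 (hc x hx)

theorem sign_Cc {a : Ω} {x : Perm Ω} (hx : x ∈ Cc G a) : Perm.sign x = 1 :=
  sign_eq_one_of_pow h.odd_sub_one (by
    rw [← h.card_Cc a]
    exact orderOf_dvd_iff_pow_eq_one.1 (Subgroup.orderOf_dvd_natCard _ hx))

theorem exists_gen : ∃ σ ∈ A, Subgroup.zpowers σ = A ∧ orderOf σ = Fintype.card Ω ∧ Perm.sign σ = -1 := by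
  haveI := h.cyc
  obtain ⟨σ, hσ⟩ := IsCyclic.exists_generator (α := A)
  have hz : Subgroup.zpowers (σ : Perm Ω) = A := by
    refine le_antisymm (Subgroup.zpowers_le.2 σ.2) fun α hα => ?_
    obtain ⟨i, hi⟩ := Subgroup.mem_zpowers_iff.1 (hσ ⟨α, hα⟩)
    exact Subgroup.mem_zpowers_iff.2 ⟨i, by rw [← SubgroupClass.coe_zpow, hi]⟩
  have hord : orderOf (σ : Perm Ω) = Fintype.card Ω := by rw [← Nat.card_zpowers, hz, h.card_A]
  refine ⟨σ, σ.2, hz, hord, ?_⟩
  have hne : ∀ c : Ω, (σ : Perm Ω) c ≠ c := by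
    intro c hc
    have h1 := h.A_semireg σ.2 hc
    rw [h1, orderOf_one] at hord
    have := h.four; omega
  obtain ⟨a⟩ : Nonempty Ω := Fintype.card_pos_iff.1 (by have := h.four; omega)
  have hcyc : Perm.IsCycle (σ : Perm Ω) := by
    refine ⟨a, hne a, fun y _ => ?_⟩
    obtain ⟨α, hα, hαy⟩ := h.exists_A a y
    rw [← hz] at hα
    obtain ⟨i, rfl⟩ := Subgroup.mem_zpowers_iff.1 hα
    exact ⟨i, hαy⟩
  rw [hcyc.sign, show (σ : Perm Ω).support = Finset.univ from
    Finset.eq_univ_of_forall fun c => Perm.mem_support.2 (hne c), Finset.card_univ, h.even.neg_one_pow]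

theorem exists_tau : ∃ τ ∈ A, orderOf τ = 2 ∧ ∀ c, τ c ≠ c := by
  obtain ⟨σ, hσ, -, hord, -⟩ := h.exists_gen
  obtain ⟨k, hk⟩ := h.even
  have h4 := h.four
  have ho : orderOf (σ ^ k) = 2 := by
    rw [orderOf_pow' _ (by omega), hord, hk, Nat.gcd_eq_right ⟨2, by ring⟩]
    rw [show k + k = 2 * k by ring, Nat.mul_div_cancel _ (by omega)]
  refine ⟨σ ^ k, pow_mem hσ k, ho, fun c hc => ?_⟩
  rw [h.A_semireg (pow_mem hσ k) hc, orderOf_one] at ho
  omega

theorem Dd_even {a b : Ω} (hab : a ≠ b) : Even (Nat.card (Dd G a b)) := by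
  classical
  by_contra hodd
  rw [Nat.not_even_iff_odd] at hodd
  have hM : Odd (Nat.card (St G a)) := by
    rw [h.card_St hab]; exact h.odd_sub_one.mul hodd
  haveI : Fact (Nat.Prime 2) := ⟨Nat.prime_two⟩
  obtain ⟨τ, hτA, hτ, hτfix⟩ := h.exists_tau
  -- a Sylow 2-subgroup of `G` inside `A`
  obtain ⟨R0⟩ : Nonempty (Sylow 2 A) := inferInstance
  set R : Subgroup (Perm Ω) := (R0 : Subgroup A).map A.subtype
  have hRA : R ≤ A := Subgroup.map_subtype_le _
  have hRG : R ≤ G := hRA.trans h.le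
  have hcR : Nat.card R = Nat.card R0 :=
    (Nat.card_congr (Subgroup.equivMapOfInjective _ _ A.subtype_injective).toEquiv).symm
  have hidx : ¬ 2 ∣ (R.subgroupOf G).index := by
    have h1 := Subgroup.card_mul_index (R.subgroupOf G)
    have h2 := Subgroup.card_mul_index (R0 : Subgroup A)
    rw [h.card_A, ← hcR] at h2
    rw [Nat.card_congr (Subgroup.subgroupOfEquivOfLe hRG).toEquiv, h.card_G a, ← h2, mul_assoc] at h1
    rw [Nat.eq_of_mul_eq_mul_left Nat.card_pos h1]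
    intro hd
    exact (Nat.prime_two.dvd_mul.1 hd).elim R0.not_dvd_index
      (fun h3 => (Nat.not_even_iff_odd.2 hM) (even_iff_two_dvd.2 h3))
  have hRcyc : IsCyclic R := haveI := h.cyc; Subgroup.isCyclic_of_le hRA
  obtain ⟨K, hKG, hK2, hKn, hKmem⟩ := exists_complement Nat.prime_two hRG (R0.2.map _) hidx (by
    intro g hg hnorm x hx
    -- automorphisms of a cyclic 2-group of odd order are trivial
    let S : Sylow 2 G := ((R0.2.map A.subtype).of_equiv (Subgroup.subgroupOfEquivOfLe hRG).symm).toSylow hidx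
    have hScyc : IsCyclic (S : Subgroup G) :=
      isCyclic_of_surjective _ (Subgroup.subgroupOfEquivOfLe hRG).symm.surjective
    have hmin : (Nat.card G).minFac = 2 := by
      rw [Nat.minFac_eq_two_iff, h.card_G a]
      exact Dvd.dvd.mul_right (even_iff_two_dvd.1 h.even) _
    have hle := hScyc.normalizer_le_centralizer hmin
    have hgn : (⟨g, hg⟩ : G) ∈ Subgroup.normalizer ((S : Subgroup G) : Set G) := by
      rw [Subgroup.mem_normalizer_iff]
      intro y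
      exact ⟨fun hy => (hnorm y hy).2, fun hy => by
        have h5 : g⁻¹ * (g * (y : Perm Ω) * g⁻¹) * g ∈ R := (hnorm _ hy).1
        simp [mul_assoc] at h5
        exact h5⟩
    exact congrArg Subtype.val (Subgroup.mem_centralizer_iff.1 (hle hgn) ⟨x, hRG hx⟩ hx))
  have hx1 : ∃ y ∈ Cc G a, y ≠ 1 := by
    haveI : Nontrivial (Cc G a) := by
      rw [← Finite.one_lt_card_iff_nontrivial, h.card_Cc a]
      have := h.four; omega
    obtain ⟨⟨y, hy⟩, hy1⟩ := exists_ne (1 : Cc G a)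
    exact ⟨y, hy, fun e => hy1 (Subtype.ext e)⟩
  obtain ⟨y, hy, hy1⟩ := hx1
  have hyK : y ∈ K := hKmem y (St_le G a (h.Cc_le a hy)) (by
    refine Nat.Coprime.coprime_dvd_left (Subgroup.orderOf_dvd_natCard _ hy) ?_
    rw [h.card_Cc a, Nat.coprime_two_right]
    exact h.odd_sub_one)
  -- `K` is transitive
  obtain ⟨k, hk, hka⟩ : ∃ k ∈ K, k a ≠ a := by
    by_contra hcon
    push Not at hcon
    exact hy1 ((Subgroup.eq_bot_iff_forall _).1 (h.eq_bot_of_fix hKn hcon) y hyK)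
  have htr : ∀ d, ∃ g ∈ K, g a = d := by
    intro d
    by_cases hd : d = a
    · exact ⟨1, one_mem _, hd.symm⟩
    obtain ⟨m, hm, hmd⟩ := h.stab_trans hka hd
    refine ⟨m * k * m⁻¹, hKn m (St_le G a hm) k hk, ?_⟩
    rw [Perm.mul_apply, Perm.mul_apply, Perm.inv_eq_iff_eq.2 (mem_St.1 hm).2.symm, hmd]
  refine hK2 ?_
  rw [card_eq_orbit_mul K a Set.univ (fun _ _ => trivial) (fun d _ => htr d), Set.ncard_univ,
    Nat.card_eq_fintype_card]
  exact Dvd.dvd.mul_right (even_iff_two_dvd.1 h.even) _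

theorem exists_invol {a b : Ω} (hab : a ≠ b) : ∃ z ∈ Dd G a b, orderOf z = 2 := by
  haveI : Fact (Nat.Prime 2) := ⟨Nat.prime_two⟩
  obtain ⟨z, hz⟩ := exists_prime_orderOf_dvd_card' (G := Dd G a b) 2
    (even_iff_two_dvd.1 (h.Dd_even hab))
  exact ⟨z, z.2, by rw [Subgroup.orderOf_coe, hz]⟩

theorem exists_odd {a b : Ω} (hab : a ≠ b) : ∃ d ∈ Dd G a b, Perm.sign d = -1 := by
  classical
  by_contra hcon
  push Not at hcon
  have hD : ∀ d ∈ Dd G a b, Perm.sign d = 1 := fun d hd =>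
    (Int.units_eq_one_or _).resolve_right (hcon d hd)
  have hM : ∀ m ∈ St G a, Perm.sign m = 1 := by
    intro m hm
    obtain ⟨x, hx, hd⟩ := h.St_decomp hab hm
    have := hD _ hd
    rwa [map_mul, map_inv, h.sign_Cc hx, inv_one, one_mul] at this
  obtain ⟨σ, hσ, -, -, hs⟩ := h.exists_gen
  have key : ∀ g ∈ G, g a = a → Perm.sign g = 1 := fun g hg e => hM g (mem_St.2 ⟨hg, e⟩)
  obtain ⟨x, hx, hxb⟩ := h.Cc_regular (Ne.symm hab) (h.exists_third a b).choose_spec.1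
  obtain ⟨g, hg, hga, hgb⟩ := h.two a b b a hab (Ne.symm hab)
  -- an even permutation moving `a`
  have hk1 : Perm.sign (g * x * g⁻¹) = 1 := by rw [map_mul, map_mul, h.sign_Cc hx, mul_one, map_inv, mul_inv_cancel]
  have hka : (g * x * g⁻¹) a ≠ a := by
    simp only [Perm.mul_apply, ← hgb, Perm.coe_inv, Equiv.symm_apply_apply, ne_eq, EmbeddingLike.apply_eq_iff_eq]
    rw [hxb]
    exact (h.exists_third a b).choose_spec.2
  have hσa : σ a ≠ a := fun e => by
    rw [h.A_semireg hσ e, map_one] at hs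
    exact absurd hs (by decide)
  obtain ⟨m, hm, hm1⟩ := h.stab_trans hka hσa
  have hkG : g * x * g⁻¹ ∈ G := mul_mem (mul_mem hg (St_le G a (h.Cc_le a hx))) (inv_mem hg)
  have hfix : (σ⁻¹ * (m * (g * x * g⁻¹))) a = a := by
    rw [Perm.mul_apply, Perm.mul_apply, hm1, Perm.coe_inv, Equiv.symm_apply_apply]
  have := key _ (mul_mem (inv_mem (h.le hσ)) (mul_mem (St_le G a hm) hkG)) hfix
  rw [map_mul, map_mul, map_inv, hs, hM m hm, hk1] at this
  exact absurd this (by decide)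

end Hyp

end H71.CycReg
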